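import Mathlib
import Groth.Agent.RGLib.Kummer
import Groth.Agent.RegLoc6.Basic
import Groth.Agent.Hensel.IntegralStrict

/-!
# Kummer extensions of regular local rings by a common exponent
-/

set_option autoImplicit false
set_option linter.style.haveILetI false

universe u

open IsLocalRing

namespace Groth.Agent.AbhAbs

variable {A : Type u} [CommRing A] [IsRegularLocalRing A] [IsDomain A] {r : ℕ}

/-- The Kummer ring with a common exponent. -/
abbrev KR (f : Fin r → A) (n : ℕ) : Type u := RGLib.Kummer.K A f (fun _ => n)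

/-- The assumptions on the functions. -/
structure IsParams (f : Fin r → A) : Prop where
  mem : ∀ i, f i ∈ maximalIdeal A
  li : LinearIndependent (ResidueField A) fun i => (maximalIdeal A).toCotangent ⟨f i, mem i⟩

variable {f : Fin r → A}

theorem IsParams.ne_zero (hf : IsParams f) (i : Fin r) : f i ≠ 0 := fun e => hf.li.ne_zero i (by
  show (maximalIdeal A).toCotangent ⟨f i, hf.mem i⟩ = 0
  rw [show (⟨f i, hf.mem i⟩ : maximalIdeal A) = 0 from Subtype.ext e, map_zero])

theorem IsParams.prod_ne_zero (hf : IsParams f) : (∏ i, f i) ≠ 0 :=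
  Finset.prod_ne_zero_iff.2 fun i _ => hf.ne_zero i

theorem KR.isRegularLocalRing (hf : IsParams f) {n : ℕ} (hn : 1 ≤ n) : IsRegularLocalRing (KR f n) :=
  RGLib.Kummer.isRegularLocalRing f (fun _ => n) (fun _ => hn) hf.mem hf.li

theorem KR.isDomain (hf : IsParams f) {n : ℕ} (hn : 1 ≤ n) : IsDomain (KR f n) :=
  haveI := KR.isRegularLocalRing hf hn
  RegLoc6.isDomain_of_isRegularLocalRing _

/-- The fraction field of a Kummer ring is finite separable. -/
theorem KR.finite_separable {n : ℕ} (hn : 1 ≤ n) (hnA : (n : A) ≠ 0) (hf0 : ∀ i, f i ≠ 0) [IsDomain (KR f n)]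
    (K₀ Kn : Type u) [Field K₀] [Algebra A K₀] [IsFractionRing A K₀] [Field Kn] [Algebra (KR f n) Kn]
    [IsFractionRing (KR f n) Kn] [Algebra A Kn] [IsScalarTower A (KR f n) Kn] [Algebra K₀ Kn] [IsScalarTower A K₀ Kn] :
    FiniteDimensional K₀ Kn ∧ Algebra.IsSeparable K₀ Kn := by
  haveI := RGLib.Kummer.finite f (fun _ => n) (fun _ => hn)
  let τ : Fin r → Kn := fun i => algebraMap (KR f n) Kn (RGLib.Kummer.T f (fun _ => n) i)
  have hτ : ∀ i, τ i ^ n = algebraMap K₀ Kn (algebraMap A K₀ (f i)) := fun i => by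
    show (algebraMap _ Kn _) ^ n = _
    rw [← map_pow, RGLib.Kummer.T_pow f (fun _ => n) i, ← IsScalarTower.algebraMap_apply,
      ← IsScalarTower.algebraMap_apply]
  have hn0 : (n : K₀) ≠ 0 := by
    rw [← map_natCast (algebraMap A K₀)]
    exact (map_ne_zero_iff _ (IsFractionRing.injective A K₀)).2 hnA
  have hsep : ∀ i, IsSeparable K₀ (τ i) := fun i => by
    refine Polynomial.Separable.of_dvd ?_ (minpoly.dvd K₀ (τ i) (p := Polynomial.X ^ n - Polynomial.C (algebraMap A K₀ (f i))) (by simp [hτ i]))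
    exact Polynomial.separable_X_pow_sub_C _ hn0 ((map_ne_zero_iff _ (IsFractionRing.injective A K₀)).2 (hf0 i))
  let E := IntermediateField.adjoin K₀ (Set.range τ)
  haveI : Algebra.IsSeparable K₀ E := (IntermediateField.isSeparable_adjoin_iff_isSeparable K₀ Kn).2 (by
    rintro _ ⟨i, rfl⟩; exact hsep i)
  haveI : FiniteDimensional K₀ E :=
    IntermediateField.finiteDimensional_adjoin fun x hx => by
      obtain ⟨i, rfl⟩ := hx; exact (hsep i).isIntegral
  have hmem : ∀ z : KR f n, algebraMap (KR f n) Kn z ∈ E := by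
    intro z
    have hz : z ∈ Algebra.adjoin A (Set.range (RGLib.Kummer.T f (fun _ => n))) := by
      rw [RGLib.Kummer.adjoin_T]; trivial
    induction hz using Algebra.adjoin_induction with
    | mem x hx => obtain ⟨i, rfl⟩ := hx; exact IntermediateField.subset_adjoin _ _ ⟨i, rfl⟩
    | algebraMap a =>
      rw [← IsScalarTower.algebraMap_apply, IsScalarTower.algebraMap_apply A K₀ Kn]
      exact E.algebraMap_mem _
    | add x y _ _ hx hy => rw [map_add]; exact add_mem hx hy
    | mul x y _ _ hx hy => rw [map_mul]; exact mul_mem hx hy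
  have htop : E = ⊤ := by
    refine eq_top_iff.2 fun x _ => ?_
    obtain ⟨a, b, -, rfl⟩ := IsFractionRing.div_surjective (A := KR f n) x
    exact E.div_mem (hmem a) (hmem b)
  let e : E ≃ₐ[K₀] Kn := (IntermediateField.equivOfEq htop).trans IntermediateField.topEquiv
  exact ⟨LinearEquiv.finiteDimensional e.toLinearEquiv, AlgEquiv.Algebra.isSeparable e⟩

/-- Over a radicial exponent every power comes from the base modulo `p`. -/
theorem exists_pow_eq {H : Type u} [CommRing H] {p : ℕ} (hp : p.Prime) (k : ℕ) (a : Fin r → H)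
    (o : RGLib.Kummer.K H a (fun _ => p ^ k)) :
    ∃ (c : H) (w : RGLib.Kummer.K H a (fun _ => p ^ k)),
      o ^ p ^ k = algebraMap H _ c + (p : RGLib.Kummer.K H a (fun _ => p ^ k)) * w := by
  have ho : o ∈ Algebra.adjoin H (Set.range (RGLib.Kummer.T a (fun _ => p ^ k))) := by
    rw [RGLib.Kummer.adjoin_T]; trivial
  induction ho using Algebra.adjoin_induction with
  | mem x hx =>
    obtain ⟨i, rfl⟩ := hx
    exact ⟨a i, 0, by rw [RGLib.Kummer.T_pow a (fun _ => p ^ k) i, mul_zero, add_zero]⟩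
  | algebraMap c => exact ⟨c ^ p ^ k, 0, by rw [map_pow, mul_zero, add_zero]⟩
  | add x y _ _ hx hy =>
    obtain ⟨c, w, hx⟩ := hx
    obtain ⟨c', w', hy⟩ := hy
    obtain ⟨v, hv⟩ := exists_add_pow_prime_pow_eq hp x y k
    refine ⟨c + c', w + w' + x * y * v, ?_⟩
    rw [hv, hx, hy, map_add]
    ring
  | mul x y _ _ hx hy =>
    obtain ⟨c, w, hx⟩ := hx
    obtain ⟨c', w', hy⟩ := hy
    refine ⟨c * c', w * algebraMap H _ c' + algebraMap H _ c * w' + (p : RGLib.Kummer.K H a (fun _ => p ^ k)) * w * w', ?_⟩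
    rw [mul_pow, hx, hy, map_mul]
    ring

end Groth.Agent.AbhAbs
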