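import Mathlib
import Groth.Agent.H1Ram.Abhyankar
import Groth.Agent.H1Ram.TameComp
import Groth.Agent.S7125

/-!
# Unramifiedness at height one primes through valuations
-/

set_option autoImplicit false
set_option linter.style.haveILetI false

universe u

open IsLocalRing

namespace Groth.Agent.AbhAbs

/-- The valuation ring of a height one prime of an integral closure and the criterion for unramifiedness. -/
theorem exists_valuationSubring (R K₁ M D : Type u) [CommRing R] [IsDomain R] [IsNoetherianRing R]
    [IsIntegrallyClosed R] [Field K₁] [Algebra R K₁] [IsFractionRing R K₁] [Field M] [Algebra K₁ M] [Algebra R M]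
    [IsScalarTower R K₁ M] [FiniteDimensional K₁ M] [Algebra.IsSeparable K₁ M] [CommRing D] [IsDomain D]
    [Algebra R D] [Algebra D M] [IsScalarTower R D M] [IsIntegralClosure D R M] (Q : Ideal D) [Q.IsPrime]
    (hQ : Q.height = 1) (hP : (Q.comap (algebraMap R D)).height = 1) :
    ∃ W : ValuationSubring M, (∀ x : D, algebraMap D M x ∈ W) ∧
      (∀ x ∈ Q, W.valuation (algebraMap D M x) < 1) ∧ (∀ x ∉ Q, (algebraMap D M x)⁻¹ ∈ W) ∧
      ((letI : Algebra (W.comap (algebraMap K₁ M)) W := (EtRam.inclOfComap W (algebraMap K₁ M)).toAlgebra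
        EtRam.IsWeaklyUnramified (W.comap (algebraMap K₁ M)) W) ∧
        (letI : Algebra (W.comap (algebraMap K₁ M)) W := (EtRam.inclOfComap W (algebraMap K₁ M)).toAlgebra
        haveI : IsLocalHom (algebraMap (W.comap (algebraMap K₁ M)) W) :=
          EtRam.isLocalHom_inclOfComap W (algebraMap K₁ M)
        Algebra.IsSeparable (ResidueField (W.comap (algebraMap K₁ M))) (ResidueField W)) →
        Algebra.IsUnramifiedAt R Q) := by
  haveI : Module.Finite R D := IsIntegralClosure.finite R K₁ M D
  haveI : IsNoetherianRing D := IsNoetherianRing.of_finite R D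
  haveI : IsFractionRing D M := IsIntegralClosure.isFractionRing_of_finite_extension R K₁ M D
  haveI : IsIntegrallyClosed D :=
    haveI := integralClosure.isIntegrallyClosedOfFiniteExtension (R := R) (L := M) K₁
    IsIntegrallyClosed.of_equiv (IsIntegralClosure.equiv R (integralClosure R M) M D).toRingEquiv
  let P := Q.comap (algebraMap R D)
  let O := Localization.AtPrime Q
  haveI : IsDiscreteValuationRing O := S7125.dvr_atPrime Q hQ
  letI : Algebra O M := (IsLocalization.lift (M := Q.primeCompl) (g := algebraMap D M) fun y =>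
    isUnit_iff_ne_zero.2 (IsFractionRing.to_map_ne_zero_of_mem_nonZeroDivisors
      (Q.primeCompl_le_nonZeroDivisors y.2))).toAlgebra
  haveI : IsScalarTower D O M := IsScalarTower.of_algebraMap_eq fun x => (IsLocalization.lift_eq _ x).symm
  haveI : IsFractionRing O M := IsFractionRing.isFractionRing_of_isLocalization Q.primeCompl O M
    Q.primeCompl_le_nonZeroDivisors
  let W : ValuationSubring M :=
    ⟨(algebraMap O M).range, fun x => by
      rcases ValuationRing.isInteger_or_isInteger O x with ⟨y, hy⟩ | ⟨y, hy⟩
      · exact Or.inl ⟨y, hy⟩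
      · exact Or.inr ⟨y, hy⟩⟩
  have hDW : ∀ x : D, algebraMap D M x ∈ W := fun x =>
    ⟨algebraMap D O x, (IsScalarTower.algebraMap_apply D O M x).symm⟩
  have hval : ∀ y : O, IsUnit (⟨algebraMap O M y, y, rfl⟩ : W) → IsUnit y := fun y hy => by
    obtain ⟨⟨_, z, rfl⟩, hz⟩ := isUnit_iff_exists_inv.1 hy
    refine IsUnit.of_mul_eq_one z (IsFractionRing.injective O M ?_)
    rw [map_mul, map_one]
    exact congrArg Subtype.val hz
  refine ⟨W, hDW, fun x hx => ?_, fun x hx => ?_, ?_⟩
  · rw [W.valuation_lt_one_iff ⟨algebraMap D M x, hDW x⟩ |>.symm, mem_maximalIdeal, mem_nonunits_iff]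
    intro hu
    have he : (⟨algebraMap O M (algebraMap D O x), _, rfl⟩ : W) = ⟨algebraMap D M x, hDW x⟩ :=
      Subtype.ext (IsScalarTower.algebraMap_apply D O M x).symm
    have hu' := hval (algebraMap D O x) (he.symm ▸ hu)
    exact (IsLocalization.AtPrime.isUnit_to_map_iff O Q x).1 hu' hx
  · obtain ⟨u, hu⟩ := IsLocalization.map_units O (⟨x, hx⟩ : Q.primeCompl)
    refine ⟨(↑u⁻¹ : O), eq_inv_of_mul_eq_one_right ?_⟩
    rw [IsScalarTower.algebraMap_apply D O M, show algebraMap D O x = u from hu.symm, ← map_mul, Units.mul_inv, map_one]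
  rintro ⟨hw, hs⟩
  let U := W.comap (algebraMap K₁ M)
  letI : Algebra U W := (EtRam.inclOfComap W (algebraMap K₁ M)).toAlgebra
  haveI : IsLocalHom (algebraMap U W) := EtRam.isLocalHom_inclOfComap W (algebraMap K₁ M)
  have hRU : ∀ r : R, algebraMap R K₁ r ∈ U := fun r => by
    show algebraMap K₁ M (algebraMap R K₁ r) ∈ W
    rw [← IsScalarTower.algebraMap_apply, IsScalarTower.algebraMap_apply R D M]
    exact hDW _
  letI : Algebra R U := ((algebraMap R K₁).codRestrict U.toSubring hRU).toAlgebra
  letI : Algebra D W := ((algebraMap D M).codRestrict W.toSubring hDW).toAlgebra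
  letI : Algebra R W := ((algebraMap D W).comp (algebraMap R D)).toAlgebra
  haveI : IsScalarTower R D W := IsScalarTower.of_algebraMap_eq fun _ => rfl
  haveI : IsScalarTower R U W := IsScalarTower.of_algebraMap_eq fun r => Subtype.ext (by
    show algebraMap D M (algebraMap R D r) = algebraMap K₁ M (algebraMap R K₁ r)
    rw [← IsScalarTower.algebraMap_apply, ← IsScalarTower.algebraMap_apply])
  -- `W` is the local ring at `Q`
  let e₀ : O →ₐ[D] W :=
    { (algebraMap O M).codRestrict W.toSubring (fun y => ⟨y, rfl⟩) with
      commutes' := fun x => Subtype.ext (IsScalarTower.algebraMap_apply D O M x).symm }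
  have he₀ : Function.Bijective e₀ := ⟨fun a b h => IsFractionRing.injective O M (congrArg Subtype.val h),
    fun w => by obtain ⟨y, hy⟩ := w.2; exact ⟨y, Subtype.ext hy⟩⟩
  let e := AlgEquiv.ofBijective e₀ he₀
  haveI : IsLocalization.AtPrime W Q := IsLocalization.isLocalization_of_algEquiv Q.primeCompl e
  -- `U` is the local ring at `P`
  haveI : IsDiscreteValuationRing (Localization.AtPrime P) := S7125.dvr_atPrime P hP
  letI : Algebra (Localization.AtPrime P) K₁ := (IsLocalization.lift (M := P.primeCompl) (g := algebraMap R K₁)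
    fun y => isUnit_iff_ne_zero.2 (IsFractionRing.to_map_ne_zero_of_mem_nonZeroDivisors
      (P.primeCompl_le_nonZeroDivisors y.2))).toAlgebra
  haveI : IsScalarTower R (Localization.AtPrime P) K₁ :=
    IsScalarTower.of_algebraMap_eq fun x => (IsLocalization.lift_eq _ x).symm
  haveI : IsFractionRing (Localization.AtPrime P) K₁ := IsFractionRing.isFractionRing_of_isLocalization
    P.primeCompl (Localization.AtPrime P) K₁ P.primeCompl_le_nonZeroDivisors
  haveI : IsLocalization.AtPrime U P := by
    refine (isLocalization_iff _ _).2 ⟨?_, fun x => ?_, fun {a b} h => ⟨1, ?_⟩⟩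
    · rintro ⟨s, hs⟩
      have hu : IsUnit (algebraMap U W (algebraMap R U s)) := by
        rw [← IsScalarTower.algebraMap_apply R U W, IsScalarTower.algebraMap_apply R D W]
        exact IsLocalization.map_units W (⟨_, hs⟩ : Q.primeCompl)
      exact isUnit_of_map_unit _ _ hu
    · by_cases hx : (x : K₁) = 0
      · exact ⟨(0, 1), by rw [Subtype.ext hx (a2 := (0 : U)), zero_mul, map_zero]⟩
      rcases ValuationRing.isInteger_or_isInteger (Localization.AtPrime P) (x : K₁) with ⟨y, hy⟩ | ⟨y, hy⟩
      all_goals
        obtain ⟨a, s, rfl⟩ := IsLocalization.exists_mk'_eq P.primeCompl y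
        have hs' : algebraMap R K₁ s ≠ 0 :=
          IsFractionRing.to_map_ne_zero_of_mem_nonZeroDivisors (P.primeCompl_le_nonZeroDivisors s.2)
        have hy' : algebraMap (Localization.AtPrime P) K₁ (IsLocalization.mk' _ a s) * algebraMap R K₁ s =
            algebraMap R K₁ a := by
          rw [IsScalarTower.algebraMap_apply R (Localization.AtPrime P) K₁ (s : R), ← map_mul,
            IsLocalization.mk'_spec, ← IsScalarTower.algebraMap_apply]
        rw [hy] at hy'
      · exact ⟨(a, s), Subtype.ext hy'⟩
      · have ha : a ∉ P := by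
          intro ha
          have h1 : algebraMap R W a * 1 = algebraMap R W a := mul_one _
          have h2 : algebraMap U W x * algebraMap R W a = algebraMap R W s := by
            rw [IsScalarTower.algebraMap_apply R U W, IsScalarTower.algebraMap_apply R U W, ← map_mul]
            refine congrArg _ (Subtype.ext ?_)
            show (x : K₁) * algebraMap R K₁ a = algebraMap R K₁ s
            rw [← hy', ← mul_assoc, mul_inv_cancel₀ hx, one_mul]
          have hmem : algebraMap R W s ∈ maximalIdeal W := by
            rw [← h2]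
            refine Ideal.mul_mem_left _ _ ?_
            rw [IsScalarTower.algebraMap_apply R D W]
            exact (IsLocalization.AtPrime.to_map_mem_maximal_iff W Q _).2 ha
          rw [IsScalarTower.algebraMap_apply R D W] at hmem
          exact s.2 ((IsLocalization.AtPrime.to_map_mem_maximal_iff W Q _).1 hmem)
        refine ⟨(s, ⟨a, ha⟩), Subtype.ext ?_⟩
        show (x : K₁) * algebraMap R K₁ a = algebraMap R K₁ s
        rw [← hy', ← mul_assoc, mul_inv_cancel₀ hx, one_mul]
    · exact congrArg _ (IsFractionRing.injective R K₁ (congrArg Subtype.val h))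
  haveI : Algebra.EssFiniteType D W := Algebra.EssFiniteType.of_isLocalization W Q.primeCompl
  haveI : Algebra.EssFiniteType R W := Algebra.EssFiniteType.comp R D W
  haveI : Algebra.EssFiniteType U W := Algebra.EssFiniteType.of_comp R U W
  haveI := hs
  haveI : Algebra.FormallyUnramified U W := Algebra.FormallyUnramified.of_map_maximalIdeal hw
  haveI : Algebra.FormallyUnramified R U := Algebra.FormallyUnramified.of_isLocalization P.primeCompl
  haveI : Algebra.FormallyUnramified R W := Algebra.FormallyUnramified.comp R U W
  exact Algebra.FormallyUnramified.of_equiv (e.restrictScalars R).symm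

end Groth.Agent.AbhAbs
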