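import Mathlib
import Groth.Agent.S11137
import Groth.Agent.Pi1Ext.BranchPurity

/-!
# Height one primes of integral closures
-/

set_option autoImplicit false

universe u

namespace Groth.Agent.AbhAbs

/-- A height one prime of the integral closure of a normal Noetherian domain lies over a height one prime. -/
theorem height_comap_eq_one (A K L : Type u) [CommRing A] [IsDomain A] [IsNoetherianRing A] [IsIntegrallyClosed A]
    [Field K] [Algebra A K] [IsFractionRing A K] [Field L] [Algebra K L] [Algebra A L] [IsScalarTower A K L]
    [FiniteDimensional K L] [Algebra.IsSeparable K L] (Q : Ideal (integralClosure A L)) [Q.IsPrime]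
    (hQ : Q.height = 1) : (Q.comap (algebraMap A (integralClosure A L))).height = 1 := by
  letI : Algebra L (SeparableClosure K) := (IsSepClosed.lift : L →ₐ[K] SeparableClosure K).toRingHom.toAlgebra
  haveI : IsScalarTower K L (SeparableClosure K) :=
    IsScalarTower.of_algebraMap_eq fun k => ((IsSepClosed.lift : L →ₐ[K] SeparableClosure K).commutes k).symm
  haveI : IsGalois K (SeparableClosure K) := inferInstance
  let M := IntermediateField.normalClosure K L (SeparableClosure K)
  haveI : IsGalois K M := IsGalois.normalClosure K L (SeparableClosure K)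
  haveI : FiniteDimensional K M := normalClosure.is_finiteDimensional K L (SeparableClosure K)
  haveI : Algebra.IsSeparable K M := IsGalois.to_isSeparable
  let D := integralClosure A L
  let D' := integralClosure A M
  haveI : Module.Finite A D := IsIntegralClosure.finite A K L D
  haveI : Module.Finite A D' := IsIntegralClosure.finite A K M D'
  haveI : Module.Finite A (integralClosure A L) := ‹Module.Finite A D›
  let j : L →ₐ[K] M := (IsScalarTower.toAlgHom K L M)
  let ι : D →ₐ[A] D' := ((j.restrictScalars A).comp D.val).codRestrict D' fun x => x.2.map (j.restrictScalars A)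
  letI : Algebra D D' := ι.toRingHom.toAlgebra
  haveI : IsScalarTower A D D' := IsScalarTower.of_algebraMap_eq fun a => (ι.commutes a).symm
  have hι : Function.Injective (algebraMap D D') := fun x y h =>
    Subtype.ext (j.injective (congrArg Subtype.val h))
  haveI : Algebra.IsIntegral D D' := Algebra.IsIntegral.tower_top (R := A)
  obtain ⟨Q', -, hQ', hQQ⟩ := Ideal.exists_ideal_over_prime_of_isIntegral Q (⊥ : Ideal D')
    (by rw [← RingHom.ker_eq_comap_bot, (RingHom.injective_iff_ker_eq_bot _).1 hι]; exact bot_le)
  haveI : Q'.IsPrime := hQ'
  haveI : IsNoetherianRing D := IsNoetherianRing.of_finite A D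
  haveI : IsNoetherianRing D' := IsNoetherianRing.of_finite A D'
  haveI : Module.Finite D D' := Module.Finite.of_restrictScalars_finite A D D'
  have h1 : Q'.height ≤ 1 := by
    refine (Groth.Agent.Pi1Ext.BranchPurity.height_le_under_of_qf (R := D) ⟨Q', inferInstance⟩).trans ?_
    exact le_of_eq ((congrArg Ideal.height hQQ).trans hQ)
  haveI : IsFractionRing D' M := IsIntegralClosure.isFractionRing_of_finite_extension A K M D'
  letI := IsIntegralClosure.MulSemiringAction A K M D'
  haveI := Algebra.isInvariant_of_isGalois A K M D'
  haveI : SMulCommClass Gal(M/K) A D' := ⟨fun g a x => by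
    refine Subtype.ext ?_
    rw [Algebra.smul_def, smul_mul']
    show _ * _ = _
    simp only [Algebra.smul_def, Subalgebra.coe_mul]
    congr 1
    exact (algebraMap_galRestrictHom_apply A K M D' g.toAlgHom _).trans (g.commutes _)⟩
  haveI : FaithfulSMul A D' := (faithfulSMul_iff_algebraMap_injective A D').2 fun a b h =>
    IsFractionRing.injective A K ((algebraMap K M).injective (congrArg Subtype.val h))
  haveI : Algebra.HasGoingDown A D' := Groth.Agent.S11137.result A D' Gal(M/K)
  let P := Q.comap (algebraMap A (integralClosure A L))
  haveI : Q'.LiesOver P := ⟨by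
    rw [Ideal.under_def, IsScalarTower.algebraMap_eq A D D', ← Ideal.comap_comap, hQQ]⟩
  refine le_antisymm ?_ ?_
  · refine le_trans ?_ h1
    rw [Ideal.height_eq_height_add_of_liesOver_of_hasGoingDown P Q']
    exact le_self_add
  · obtain ⟨t, htQ, ht0⟩ := Submodule.exists_mem_ne_zero_of_ne_bot (Ideal.ne_bot_of_height_eq_one hQ)
    rw [Order.one_le_iff_ne_zero, Ne, Ideal.height_eq_zero_iff_eq_bot]
    exact Ideal.comap_ne_bot_of_integral_mem ht0 htQ (Algebra.IsIntegral.isIntegral t)

end Groth.Agent.AbhAbs

namespace Groth.Agent.AbhAbs

/-- The same statement for any integral closure. -/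
theorem height_comap_eq_one' (A K L D : Type u) [CommRing A] [IsDomain A] [IsNoetherianRing A] [IsIntegrallyClosed A]
    [Field K] [Algebra A K] [IsFractionRing A K] [Field L] [Algebra K L] [Algebra A L] [IsScalarTower A K L]
    [FiniteDimensional K L] [Algebra.IsSeparable K L] [CommRing D] [Algebra A D] [Algebra D L] [IsScalarTower A D L]
    [IsIntegralClosure D A L] (Q : Ideal D) [Q.IsPrime]
    (hQ : Q.height = 1) : (Q.comap (algebraMap A D)).height = 1 := by
  let e := IsIntegralClosure.equiv A (integralClosure A L) L D
  have h := height_comap_eq_one A K L (Q.comap e.toRingEquiv.toRingHom)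
    ((RingEquiv.height_comap e.toRingEquiv Q).trans hQ)
  rwa [Ideal.comap_comap, show e.toRingEquiv.toRingHom.comp (algebraMap A (integralClosure A L)) = algebraMap A D from
    RingHom.ext e.commutes] at h

end Groth.Agent.AbhAbs
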