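import Mathlib
import Groth.Prelude.Def_SGA1
import Groth.Agent.AbhAbs.Height
import Groth.Agent.AbhAbs.Dvr
import Groth.Agent.AbhAbs.Tame
import Groth.Agent.TameEt.Basic

/-!
# Unramifiedness of a tame cover pulled back to a Kummer extension, at a height one prime
-/

set_option autoImplicit false
set_option linter.style.haveILetI false

universe u

open IsLocalRing TensorProduct

namespace Groth.Agent.AbhAbs

variable {A : Type u} [CommRing A] [IsDomain A]
  {AF : Type u} [CommRing AF] [Algebra A AF] {F : A} [IsLocalization.Away F AF]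
  {B : Type u} [CommRing B] [Algebra A B] [Algebra AF B] [IsScalarTower A AF B] [Algebra.Etale AF B]
  [Module.Finite AF B]
  {K₁ M : Type u} [Field K₁] [Algebra A K₁] [Field M] [Algebra K₁ M] [Algebra A M] [IsScalarTower A K₁ M]

include AF in
/-- A field generated by a finite étale algebra is finite separable. -/
theorem finite_separable (hF : algebraMap A K₁ F ≠ 0) (ψ : B →ₐ[A] M)
    (hgen : Algebra.adjoin K₁ (Set.range ψ) = ⊤) : FiniteDimensional K₁ M ∧ Algebra.IsSeparable K₁ M := by
  letI : Algebra AF K₁ := (IsLocalization.Away.lift F (isUnit_iff_ne_zero.2 hF) : AF →+* K₁).toAlgebra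
  haveI : IsScalarTower A AF K₁ := IsScalarTower.of_algebraMap_eq fun a => (IsLocalization.Away.lift_eq F _ a).symm
  letI : Algebra AF M := ((algebraMap K₁ M).comp (algebraMap AF K₁)).toAlgebra
  haveI : IsScalarTower AF K₁ M := IsScalarTower.of_algebraMap_eq fun _ => rfl
  haveI : IsScalarTower A AF M := IsScalarTower.of_algebraMap_eq fun a => by
    rw [IsScalarTower.algebraMap_apply A K₁ M, IsScalarTower.algebraMap_apply A AF K₁]
    rfl
  let ψ' : B →ₐ[AF] M :=
    { ψ.toRingHom with
      commutes' := fun x => by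
        have := IsLocalization.ringHom_ext (Submonoid.powers F)
          (j := ψ.toRingHom.comp (algebraMap AF B)) (k := algebraMap AF M) (RingHom.ext fun a => by
            simp only [RingHom.comp_apply, ← IsScalarTower.algebraMap_apply]
            exact ψ.commutes a)
        exact RingHom.congr_fun this x }
  let θ : K₁ ⊗[AF] B →ₐ[K₁] M := Algebra.TensorProduct.lift (Algebra.ofId K₁ M) ψ' fun _ _ => Commute.all _ _
  have hθ : Function.Surjective θ := by
    rw [← AlgHom.range_eq_top, eq_top_iff, ← hgen]
    refine Algebra.adjoin_le ?_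
    rintro _ ⟨b, rfl⟩
    exact ⟨1 ⊗ₜ b, by simp [θ, ψ']⟩
  haveI : Module.Finite K₁ (K₁ ⊗[AF] B) := inferInstance
  haveI : Module.Finite K₁ M := Module.Finite.of_surjective θ.toLinearMap hθ
  haveI : Algebra.FormallyUnramified K₁ M := Algebra.FormallyUnramified.of_surjective θ hθ
  exact ⟨inferInstance, Algebra.FormallyUnramified.isSeparable K₁ M⟩

variable [IsNoetherianRing A] [IsIntegrallyClosed A]
  {K₀ : Type u} [Field K₀] [Algebra A K₀] [IsFractionRing A K₀] [Algebra K₀ K₁] [IsScalarTower A K₀ K₁]
  [Algebra K₀ M] [IsScalarTower K₀ K₁ M] [IsScalarTower A K₀ M]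
  {R : Type u} [CommRing R] [IsDomain R] [IsNoetherianRing R] [IsIntegrallyClosed R] [Algebra A R]
  [Algebra.IsIntegral A R] [Algebra R K₁] [IsFractionRing R K₁] [IsScalarTower A R K₁]
  [Algebra R M] [IsScalarTower R K₁ M] [IsScalarTower A R M]

include AF in
/-- At a height one prime, the pullback of a tame cover to a field containing enough roots is unramified. -/
theorem isUnramifiedAt_of_height_one {r : ℕ} (f : Fin r → A) [∀ i, (Ideal.span {f i}).IsPrime] (hf0 : ∀ i, f i ≠ 0)
    (hF : ∀ P : Ideal A, P.IsPrime → F ∈ P → ∃ i, f i ∈ P) (hFne : F ≠ 0)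
    (htame : SGA1.IsTameAlong f (algebraMap A B)) [FiniteDimensional K₀ K₁] [Algebra.IsSeparable K₀ K₁]
    (ψ : B →ₐ[A] M) (hgen : Algebra.adjoin K₁ (Set.range ψ) = ⊤) (N : ℕ) (hN0 : 0 < N) (t : Fin r → R)
    (ht : ∀ i, t i ^ N = algebraMap A R (f i))
    (D : Type u) [CommRing D] [IsDomain D] [Algebra R D] [Algebra D M] [IsScalarTower R D M] [IsIntegralClosure D R M]
    (Q : Ideal D) [Q.IsPrime] (hQ : Q.height = 1) (d : ℕ)
    (hd : ∀ (L : Type u) [Field L] [Algebra K₀ L] [Algebra B L] [Algebra A L] [IsScalarTower A B L]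
      [IsScalarTower A K₀ L], Algebra.adjoin K₀ (Set.range (algebraMap B L)) = ⊤ → Module.finrank K₀ L ≤ d)
    (hN : ∀ i, algebraMap R D (algebraMap A R (f i)) ∈ Q → ∀ e : ℕ, 0 < e → e ≤ d →
      (e : ResidueField (Localization.AtPrime (Ideal.span {f i}))) ≠ 0 → e ∣ N) :
    Algebra.IsUnramifiedAt R Q := by
  have hinjA : Function.Injective (algebraMap A K₁) := by
    rw [IsScalarTower.algebraMap_eq A K₀ K₁]
    exact (algebraMap K₀ K₁).injective.comp (IsFractionRing.injective A K₀)
  have hFK : algebraMap A K₁ F ≠ 0 := (map_ne_zero_iff _ hinjA).2 hFne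
  obtain ⟨_, _⟩ := finite_separable (AF := AF) hFK ψ hgen
  haveI : FiniteDimensional K₀ M := FiniteDimensional.trans K₀ K₁ M
  haveI : Algebra.IsSeparable K₀ M := Algebra.IsSeparable.trans K₀ K₁ M
  letI : Algebra A D := ((algebraMap R D).comp (algebraMap A R)).toAlgebra
  haveI : IsScalarTower A R D := IsScalarTower.of_algebraMap_eq fun _ => rfl
  haveI : IsScalarTower A D M := IsScalarTower.of_algebraMap_eq fun a => by
    rw [IsScalarTower.algebraMap_apply A R D, ← IsScalarTower.algebraMap_apply R D M, ← IsScalarTower.algebraMap_apply]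
  haveI : IsIntegralClosure D A M :=
    ⟨IsIntegralClosure.algebraMap_injective D R M, fun {x} => ⟨fun hx => IsIntegralClosure.isIntegral_iff.1 (hx.tower_top : IsIntegral R x),
      fun hx => isIntegral_trans (R := A) (A := R) x (IsIntegralClosure.isIntegral_iff.2 hx)⟩⟩
  have hA1 : (Q.comap (algebraMap A D)).height = 1 := height_comap_eq_one' A K₀ M D Q hQ
  have hR1 : (Q.comap (algebraMap R D)).height = 1 := height_comap_eq_one' R K₁ M D Q hQ
  obtain ⟨W, hDW, hQW, hQW', hcrit⟩ := exists_valuationSubring R K₁ M D Q hQ hR1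
  refine hcrit ?_
  have hAW : ∀ a : A, algebraMap A M a ∈ W := fun a => by
    rw [IsScalarTower.algebraMap_apply A D M]; exact hDW _
  by_cases hFQ : algebraMap A D F ∈ Q
  · -- at a point of the divisor
    obtain ⟨i, hi⟩ := hF (Q.comap (algebraMap A D)) inferInstance hFQ
    let P : Ideal A := Ideal.span {f i}
    have hP : P = Q.comap (algebraMap A D) := by
      refine eq_of_le_of_not_lt ((Ideal.span_singleton_le_iff_mem _).2 hi) fun hlt => ?_
      have h2 := Ideal.height_strict_mono_of_isPrime hlt
      rw [hA1] at h2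
      exact Ideal.span_singleton_eq_bot.not.2 (hf0 i) (Ideal.height_eq_zero_iff_eq_bot.1 (Order.lt_one_iff.1 h2))
    let A₁ := Localization.AtPrime P
    have hu : ∀ y : P.primeCompl, IsUnit (algebraMap A K₀ y) := fun y =>
      isUnit_iff_ne_zero.2 (IsFractionRing.to_map_ne_zero_of_mem_nonZeroDivisors (P.primeCompl_le_nonZeroDivisors y.2))
    letI : Algebra A₁ K₀ := (IsLocalization.lift (M := P.primeCompl) hu).toAlgebra
    haveI : IsScalarTower A A₁ K₀ := IsScalarTower.of_algebraMap_eq fun a => (IsLocalization.lift_eq hu a).symm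
    haveI : IsFractionRing A₁ K₀ := IsFractionRing.isFractionRing_of_isLocalization P.primeCompl A₁ K₀
      P.primeCompl_le_nonZeroDivisors
    haveI : IsDiscreteValuationRing A₁ := S7125.dvr_atPrime P (hP ▸ hA1)
    -- the residue field of the point of `B`
    let q : Ideal B := RingHom.ker ψ
    haveI : q.IsPrime := RingHom.ker_isPrime _
    have hq : q.comap (algebraMap A B) = ⊥ := by
      rw [eq_bot_iff]
      intro a ha
      have h1 : ψ (algebraMap A B a) = 0 := ha
      rw [ψ.commutes, IsScalarTower.algebraMap_apply A K₁ M, map_eq_zero, ← map_zero (algebraMap A K₁)] at h1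
      exact hinjA h1
    have hT := htame i q hq
    let L := q.ResidueField
    have hu' : ∀ y : nonZeroDivisors A, IsUnit ((algebraMap B L).comp (algebraMap A B) y) := fun y => by
      rw [isUnit_iff_ne_zero, RingHom.comp_apply, Ne, ← RingHom.mem_ker, Ideal.ker_algebraMap_residueField]
      intro h
      have h' : (y : A) ∈ q.comap (algebraMap A B) := h
      rw [hq, Ideal.mem_bot] at h'
      exact nonZeroDivisors.ne_zero y.2 h'
    letI : Algebra K₀ L := (IsLocalization.lift (M := nonZeroDivisors A) hu').toAlgebra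
    haveI : IsScalarTower A K₀ L := IsScalarTower.of_algebraMap_eq fun a =>
      (IsScalarTower.algebraMap_apply A B L a).trans (IsLocalization.lift_eq hu' a).symm
    letI : Algebra L M := (Ideal.ResidueField.lift q ψ.toRingHom (fun b hb => hb)
      (fun b hb => isUnit_iff_ne_zero.2 hb)).toAlgebra
    have hLM : ∀ b, algebraMap L M (algebraMap B L b) = ψ b := fun b =>
      Ideal.ResidueField.lift_algebraMap _ _ _ _ b
    haveI : IsScalarTower K₀ L M := IsScalarTower.of_algebraMap_eq' (by
      refine IsLocalization.ringHom_ext (nonZeroDivisors A) (RingHom.ext fun a => ?_)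
      simp only [RingHom.comp_apply]
      rw [← IsScalarTower.algebraMap_apply A K₀ M, ← IsScalarTower.algebraMap_apply A K₀ L,
        IsScalarTower.algebraMap_apply A B L, hLM, ψ.commutes])
    have hgenL : Algebra.adjoin L (Set.range (algebraMap K₁ M)) = ⊤ := by
      rw [eq_top_iff]
      intro x _
      have hx : x ∈ Algebra.adjoin K₁ (Set.range ψ) := hgen ▸ Algebra.mem_top
      induction hx using Algebra.adjoin_induction with
      | mem y hy => obtain ⟨b, rfl⟩ := hy; rw [← hLM]; exact Subalgebra.algebraMap_mem _ _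
      | algebraMap k => exact Algebra.subset_adjoin ⟨k, rfl⟩
      | add y z _ _ hy hz => exact add_mem (hy Algebra.mem_top) (hz Algebra.mem_top)
      | mul y z _ _ hy hz => exact mul_mem (hy Algebra.mem_top) (hz Algebra.mem_top)
    have hmap : (algebraMap K₀ L).comp (algebraMap A₁ K₀) = SGA1.genericResidueMap (algebraMap A B) P q hq := by
      refine IsLocalization.ringHom_ext P.primeCompl (RingHom.ext fun a => ?_)
      simp only [RingHom.comp_apply]
      rw [← IsScalarTower.algebraMap_apply A A₁ K₀, ← IsScalarTower.algebraMap_apply A K₀ L,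
        IsScalarTower.algebraMap_apply A B L]
      exact (IsLocalization.lift_eq (M := P.primeCompl) (SGA1.isUnit_genericResidue (algebraMap A B) P q hq) a).symm
    have hdomW : EtRam.Dominates A₁ ((algebraMap K₀ M).comp (algebraMap A₁ K₀)) W := by
      have hval : ∀ a : A, (algebraMap K₀ M) (algebraMap A₁ K₀ (algebraMap A A₁ a)) = algebraMap A M a := fun a => by
        rw [← IsScalarTower.algebraMap_apply A A₁ K₀, ← IsScalarTower.algebraMap_apply A K₀ M]
      have hinv : ∀ s : P.primeCompl, (algebraMap A M (s : A))⁻¹ ∈ W := fun s => by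
        rw [IsScalarTower.algebraMap_apply A D M]
        exact hQW' _ fun hs => s.2 (hP.ge hs)
      refine ⟨fun x => ?_, fun x hx => ?_⟩
      all_goals obtain ⟨a, s, rfl⟩ := IsLocalization.exists_mk'_eq P.primeCompl x
      all_goals
        have heq : ((algebraMap K₀ M).comp (algebraMap A₁ K₀)) (IsLocalization.mk' A₁ a s) =
            algebraMap A M a * (algebraMap A M (s : A))⁻¹ := by
          have hs0 : algebraMap A M (s : A) ≠ 0 := by
            rw [IsScalarTower.algebraMap_apply A K₀ M]
            exact (_root_.map_ne_zero _).2 (IsFractionRing.to_map_ne_zero_of_mem_nonZeroDivisors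
              (P.primeCompl_le_nonZeroDivisors s.2))
          have hspec := congrArg ((algebraMap K₀ M).comp (algebraMap A₁ K₀)) (IsLocalization.mk'_spec A₁ a s)
          rw [map_mul, RingHom.comp_apply, RingHom.comp_apply, RingHom.comp_apply, hval, hval] at hspec
          rw [eq_mul_inv_iff_mul_eq₀ hs0, RingHom.comp_apply]
          exact hspec
      · rw [heq]
        exact W.mul_mem _ _ (hAW a) (hinv s)
      · rw [heq, map_mul]
        refine mul_lt_one_of_lt_of_le ?_ ((W.valuation_le_one_iff _).2 (hinv s))
        rw [IsScalarTower.algebraMap_apply A D M]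
        refine hQW _ ?_
        have ha : a ∈ P := by
          exact (IsLocalization.AtPrime.mk'_mem_maximal_iff A₁ P a s).1 hx
        exact hP.le ha
    have hres := unramified_of_root (A := A₁) (K := K₀) (L := L) (K₁ := K₁) (M := M) (hmap ▸ hT) hgenL
      (algebraMap A A₁ (f i)) (by rw [← Localization.AtPrime.map_eq_maximalIdeal, Ideal.map_span, Set.image_singleton])
      N hN0 (algebraMap R K₁ (t i)) (by
        rw [← map_pow, ht, ← IsScalarTower.algebraMap_apply, ← IsScalarTower.algebraMap_apply A A₁ K₀,
          ← IsScalarTower.algebraMap_apply])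
      (fun e he hle hne => ?_) W hdomW
    · exact hres
    · refine hN i ?_ e he (hle.trans (hd L ?_)) hne
      · rw [← IsScalarTower.algebraMap_apply]
        exact hi
      · rw [eq_top_iff]
        intro x _
        obtain ⟨b, s, hs, rfl⟩ := IsFractionRing.div_surjective (A := B ⧸ q) x
        obtain ⟨b, rfl⟩ := Ideal.Quotient.mk_surjective b
        obtain ⟨s, rfl⟩ := Ideal.Quotient.mk_surjective s
        haveI : FiniteDimensional K₀ L :=
          FiniteDimensional.of_injective (IsScalarTower.toAlgHom K₀ L M).toLinearMap (algebraMap L M).injective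
        haveI : Algebra.IsAlgebraic K₀ L := Algebra.IsAlgebraic.of_finite K₀ L
        let S := (Algebra.adjoin K₀ (Set.range (algebraMap B L)))
        rw [div_eq_mul_inv]
        refine mul_mem (Algebra.subset_adjoin ⟨b, rfl⟩) ?_
        exact Subalgebra.inv_mem_of_algebraic S (x := ⟨algebraMap B L s, Algebra.subset_adjoin ⟨s, rfl⟩⟩)
          (Algebra.IsAlgebraic.isAlgebraic _)
  · -- away from the divisor
    let P : Ideal R := Q.comap (algebraMap R D)
    let R₁ := Localization.AtPrime P
    have hu : ∀ y : P.primeCompl, IsUnit (algebraMap R K₁ y) := fun y =>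
      isUnit_iff_ne_zero.2 (IsFractionRing.to_map_ne_zero_of_mem_nonZeroDivisors (P.primeCompl_le_nonZeroDivisors y.2))
    letI : Algebra R₁ K₁ := (IsLocalization.lift (M := P.primeCompl) hu).toAlgebra
    haveI : IsScalarTower R R₁ K₁ := IsScalarTower.of_algebraMap_eq fun a => (IsLocalization.lift_eq hu a).symm
    haveI : IsFractionRing R₁ K₁ := IsFractionRing.isFractionRing_of_isLocalization P.primeCompl R₁ K₁
      P.primeCompl_le_nonZeroDivisors
    haveI : IsDiscreteValuationRing R₁ := S7125.dvr_atPrime P hR1
    have hdom : EtRam.Dominates R₁ ((algebraMap K₁ M).comp (algebraMap R₁ K₁)) W := by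
      have hval : ∀ a : R, (algebraMap K₁ M) (algebraMap R₁ K₁ (algebraMap R R₁ a)) =
          algebraMap D M (algebraMap R D a) := fun a => by
        rw [← IsScalarTower.algebraMap_apply R R₁ K₁, ← IsScalarTower.algebraMap_apply R K₁ M,
          ← IsScalarTower.algebraMap_apply R D M]
      refine ⟨fun x => ?_, fun x hx => ?_⟩
      all_goals obtain ⟨a, s, rfl⟩ := IsLocalization.exists_mk'_eq P.primeCompl x
      all_goals
        have heq : ((algebraMap K₁ M).comp (algebraMap R₁ K₁)) (IsLocalization.mk' R₁ a s) =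
            algebraMap D M (algebraMap R D a) * (algebraMap D M (algebraMap R D (s : R)))⁻¹ := by
          have hs0 : algebraMap D M (algebraMap R D (s : R)) ≠ 0 := by
            rw [← IsScalarTower.algebraMap_apply, IsScalarTower.algebraMap_apply R K₁ M]
            exact (_root_.map_ne_zero _).2 (IsFractionRing.to_map_ne_zero_of_mem_nonZeroDivisors
              (P.primeCompl_le_nonZeroDivisors s.2))
          have hspec := congrArg ((algebraMap K₁ M).comp (algebraMap R₁ K₁)) (IsLocalization.mk'_spec R₁ a s)
          rw [map_mul, RingHom.comp_apply, RingHom.comp_apply, RingHom.comp_apply, hval, hval] at hspec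
          rw [eq_mul_inv_iff_mul_eq₀ hs0, RingHom.comp_apply]
          exact hspec
      · rw [heq]
        exact W.mul_mem _ _ (hDW _) (hQW' _ fun hs => s.2 hs)
      · rw [heq, map_mul]
        refine mul_lt_one_of_lt_of_le (hQW _ ?_) ((W.valuation_le_one_iff _).2 (hQW' _ fun hs => s.2 hs))
        exact (IsLocalization.AtPrime.mk'_mem_maximal_iff R₁ P a s).1 hx
    let U := W.comap (algebraMap K₁ M)
    have hdomU : EtRam.Dominates R₁ ((algebraMap K₁ K₁).comp (algebraMap R₁ K₁)) U :=
      H1Ram.dominates_comap_of W (algebraMap K₁ M) ((algebraMap K₁ K₁).comp (algebraMap R₁ K₁))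
        ((algebraMap K₁ M).comp (algebraMap R₁ K₁)) (by rw [Algebra.algebraMap_self, RingHom.id_comp]) hdom
    haveI : IsDiscreteValuationRing U := H1Ram.isDVR_of_dominates (A := R₁) (K := K₁) (L := K₁) U hdomU
    letI : Algebra U W := (EtRam.inclOfComap W (algebraMap K₁ M)).toAlgebra
    haveI : IsLocalHom (algebraMap U W) := EtRam.isLocalHom_inclOfComap W (algebraMap K₁ M)
    have hAU : ∀ a : A, algebraMap A K₁ a ∈ U := fun a => by
      show algebraMap K₁ M (algebraMap A K₁ a) ∈ W
      rw [← IsScalarTower.algebraMap_apply]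
      exact hAW a
    letI : Algebra A U := ((algebraMap A K₁).codRestrict U.toSubring hAU).toAlgebra
    have hFU : IsUnit (algebraMap A U F) := by
      refine isUnit_iff_exists_inv.2 ⟨⟨(algebraMap A K₁ F)⁻¹, ?_⟩, Subtype.ext (mul_inv_cancel₀ hFK)⟩
      show algebraMap K₁ M _ ∈ W
      rw [map_inv₀, ← IsScalarTower.algebraMap_apply, IsScalarTower.algebraMap_apply A D M]
      exact hQW' _ hFQ
    letI : Algebra AF U := (IsLocalization.Away.lift F hFU : AF →+* U).toAlgebra
    haveI : IsScalarTower A AF U := IsScalarTower.of_algebraMap_eq fun a => (IsLocalization.Away.lift_eq F hFU a).symm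
    letI : Algebra AF M := ((algebraMap K₁ M).comp (U.subtype.comp (algebraMap AF U))).toAlgebra
    let ψ' : B →ₐ[AF] M :=
      { ψ.toRingHom with
        commutes' := fun x => by
          have := IsLocalization.ringHom_ext (Submonoid.powers F)
            (j := ψ.toRingHom.comp (algebraMap AF B)) (k := algebraMap AF M) (RingHom.ext fun a => by
              show ψ (algebraMap AF B (algebraMap A AF a)) = algebraMap K₁ M (algebraMap AF U (algebraMap A AF a) : U)
              rw [← IsScalarTower.algebraMap_apply A AF B, ← IsScalarTower.algebraMap_apply A AF U, ψ.commutes]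
              exact IsScalarTower.algebraMap_apply A K₁ M a)
          exact RingHom.congr_fun this x }
    letI : Algebra U M := ((algebraMap K₁ M).comp U.subtype).toAlgebra
    haveI : IsScalarTower AF U M := IsScalarTower.of_algebraMap_eq fun _ => rfl
    let θ : U ⊗[AF] B →ₐ[U] M := Algebra.TensorProduct.lift (Algebra.ofId U M) ψ' fun _ _ => Commute.all _ _
    haveI : IsNoetherianRing (U ⊗[AF] B) := IsNoetherianRing.of_finite U _
    have hθ1 : ∀ u : U, θ (algebraMap U _ u) = algebraMap U M u := fun u => θ.commutes u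
    have hθb : ∀ b, θ (1 ⊗ₜ b) = ψ b := fun b => by simp [θ, ψ']
    let S : Set M := {v | ∃ x y, θ y ≠ 0 ∧ v * θ y = θ x}
    have hfr : ∀ v : M, v ∈ S := by
      intro v
      have hv : v ∈ Algebra.adjoin K₁ (Set.range ψ) := hgen ▸ Algebra.mem_top
      clear * - hv hθ1 hθb
      induction hv using Algebra.adjoin_induction with
      | mem y hy =>
        obtain ⟨b, rfl⟩ := hy
        exact ⟨1 ⊗ₜ b, 1, by rw [map_one]; exact one_ne_zero, by rw [map_one, mul_one, hθb]⟩
      | algebraMap k =>
        obtain ⟨a, b, hb, rfl⟩ := IsFractionRing.div_surjective (A := U) k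
        refine ⟨algebraMap U _ a, algebraMap U _ b, ?_, ?_⟩
        · rw [hθ1]
          show algebraMap K₁ M (b : K₁) ≠ 0
          exact (_root_.map_ne_zero _).2 (IsFractionRing.to_map_ne_zero_of_mem_nonZeroDivisors hb)
        · rw [hθ1, hθ1]
          show algebraMap K₁ M _ * algebraMap K₁ M (b : K₁) = algebraMap K₁ M (a : K₁)
          rw [← map_mul]
          congr 1
          exact div_mul_cancel₀ _ (IsFractionRing.to_map_ne_zero_of_mem_nonZeroDivisors hb)
      | add v w _ _ hv hw =>
        obtain ⟨x, y, hy, hv⟩ := hv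
        obtain ⟨x', y', hy', hw⟩ := hw
        exact ⟨x * y' + x' * y, y * y', by rw [map_mul]; exact mul_ne_zero hy hy', by
          simp only [map_add, map_mul]; linear_combination θ y' * hv + θ y * hw⟩
      | mul v w _ _ hv hw =>
        obtain ⟨x, y, hy, hv⟩ := hv
        obtain ⟨x', y', hy', hw⟩ := hw
        exact ⟨x * x', y * y', by rw [map_mul]; exact mul_ne_zero hy hy', by
          simp only [map_mul]; linear_combination (w * θ y') * hv + θ x * hw⟩
    have hdomW : EtRam.Dominates U (algebraMap U M) W :=
      ⟨fun b => b.2, fun b hb => (H1Ram.comap_valuation_lt_one W (algebraMap K₁ M) _).1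
        ((U.valuation_lt_one_iff b).1 hb)⟩
    have hmem : ∀ z, θ z ∈ W := by
      intro z
      induction z using TensorProduct.induction_on with
      | zero => rw [map_zero]; exact W.zero_mem
      | tmul u b =>
        rw [← mul_one u, ← one_mul b, ← Algebra.TensorProduct.tmul_mul_tmul, map_mul, hθb,
          show (u ⊗ₜ[AF] (1 : B)) = algebraMap U (U ⊗[AF] B) u from rfl, hθ1]
        exact W.mul_mem _ _ u.2 (TameEt.mem_of_finite (algebraMap U M) θ.toRingHom θ.comp_algebraMap W hdomW
          (1 ⊗ₜ b) |> fun h => (hθb b) ▸ h)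
      | add x y hx hy => rw [map_add]; exact W.add_mem _ _ hx hy
    obtain ⟨h1, h2, -⟩ := @TameEt.unramified_at_of_essFiniteType U _ _ _ (U ⊗[AF] B) _ _ _ _ _ M _ (algebraMap U M)
      ((algebraMap K₁ M).injective.comp Subtype.val_injective) θ.toRingHom θ.comp_algebraMap hfr W hdomW hmem
      (EtRam.isLocalHom_inclOfComap W (algebraMap K₁ M))
    exact ⟨h1, h2⟩

end Groth.Agent.AbhAbs
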