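import Mathlib
import Groth.Agent.AbhAbs.Point
import Groth.Agent.AbhAbs.Kummer
import Groth.Agent.Pi1Ext.BranchPurity

/-!
# The pullback of a tame cover to a deep Kummer extension extends (purity)
-/

set_option autoImplicit false
set_option linter.style.haveILetI false

universe u

open IsLocalRing TensorProduct

namespace Groth.Agent.AbhAbs

variable {A : Type u} [CommRing A] [IsRegularLocalRing A] [IsDomain A] {r : ℕ} {f : Fin r → A}
  [∀ i, (Ideal.span {f i}).IsPrime]
  {B : Type u} [CommRing B] [Algebra A B] [Algebra (Localization.Away (∏ i, f i)) B]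
  [IsScalarTower A (Localization.Away (∏ i, f i)) B] [Algebra.Etale (Localization.Away (∏ i, f i)) B]
  [Module.Finite (Localization.Away (∏ i, f i)) B]

variable (K₀ : Type u) [Field K₀] [Algebra A K₀] [IsFractionRing A K₀]

/-- A bound for the degrees of the components of the generic fibre. -/
def DegBound (B : Type u) [CommRing B] [Algebra A B] (d : ℕ) : Prop :=
  ∀ (L : Type u) [Field L] [Algebra K₀ L] [Algebra B L] [Algebra A L] [IsScalarTower A B L]
    [IsScalarTower A K₀ L], Algebra.adjoin K₀ (Set.range (algebraMap B L)) = ⊤ → Module.finrank K₀ L ≤ d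

theorem exists_degBound (hf : IsParams f) : ∃ d, DegBound (A := A) K₀ B d := by
  letI : Algebra (Localization.Away (∏ i, f i)) K₀ :=
    (IsLocalization.Away.lift (∏ i, f i) (isUnit_iff_ne_zero.2
      ((map_ne_zero_iff _ (IsFractionRing.injective A K₀)).2 hf.prod_ne_zero)) :
        Localization.Away (∏ i, f i) →+* K₀).toAlgebra
  haveI : IsScalarTower A (Localization.Away (∏ i, f i)) K₀ :=
    IsScalarTower.of_algebraMap_eq fun a => (IsLocalization.Away.lift_eq _ _ a).symm
  refine ⟨Module.finrank K₀ (K₀ ⊗[Localization.Away (∏ i, f i)] B), fun L _ _ _ _ _ _ hgen => ?_⟩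
  letI : Algebra (Localization.Away (∏ i, f i)) L :=
    ((algebraMap K₀ L).comp (algebraMap (Localization.Away (∏ i, f i)) K₀)).toAlgebra
  haveI : IsScalarTower (Localization.Away (∏ i, f i)) K₀ L := IsScalarTower.of_algebraMap_eq fun _ => rfl
  let ψ : B →ₐ[Localization.Away (∏ i, f i)] L :=
    { algebraMap B L with
      commutes' := fun x => by
        have := IsLocalization.ringHom_ext (Submonoid.powers (∏ i, f i))
          (j := (algebraMap B L).comp (algebraMap (Localization.Away (∏ i, f i)) B))
          (k := algebraMap (Localization.Away (∏ i, f i)) L) (RingHom.ext fun a => by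
            simp only [RingHom.comp_apply]
            rw [← IsScalarTower.algebraMap_apply A (Localization.Away (∏ i, f i)) B,
              ← IsScalarTower.algebraMap_apply A B L, IsScalarTower.algebraMap_apply A K₀ L,
              IsScalarTower.algebraMap_apply A (Localization.Away (∏ i, f i)) K₀]
            rfl)
        exact RingHom.congr_fun this x }
  let θ : K₀ ⊗[Localization.Away (∏ i, f i)] B →ₐ[K₀] L :=
    Algebra.TensorProduct.lift (Algebra.ofId K₀ L) ψ fun _ _ => Commute.all _ _
  have hθ : Function.Surjective θ := by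
    rw [← AlgHom.range_eq_top, eq_top_iff, ← hgen]
    refine Algebra.adjoin_le ?_
    rintro _ ⟨b, rfl⟩
    exact ⟨1 ⊗ₜ b, by simp [θ, ψ]⟩
  exact θ.toLinearMap.finrank_le_finrank_of_surjective hθ

/-- Purity: the normalization in a compositum with a deep Kummer extension is étale. -/
theorem etale_integralClosure (hf : IsParams f) (htame : SGA1.IsTameAlong f (algebraMap A B)) (N : ℕ) (hN1 : 1 ≤ N)
    (hNA : (N : A) ≠ 0) [IsDomain (KR f N)] (Kn M : Type u) [Field Kn] [Algebra (KR f N) Kn]
    [IsFractionRing (KR f N) Kn] [Algebra A Kn] [IsScalarTower A (KR f N) Kn] [Algebra K₀ Kn] [IsScalarTower A K₀ Kn]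
    [Field M] [Algebra Kn M] [Algebra A M] [IsScalarTower A Kn M] [Algebra K₀ M] [IsScalarTower K₀ Kn M]
    [IsScalarTower A K₀ M] [Algebra (KR f N) M] [IsScalarTower (KR f N) Kn M] [IsScalarTower A (KR f N) M]
    (ψ : B →ₐ[A] M) (hgen : Algebra.adjoin Kn (Set.range ψ) = ⊤) (d : ℕ) (hd : DegBound (A := A) K₀ B d)
    (hN : ∀ i (e : ℕ), 0 < e → e ≤ d → (e : ResidueField (Localization.AtPrime (Ideal.span {f i}))) ≠ 0 → e ∣ N) :
    Algebra.Etale (KR f N) (integralClosure (KR f N) M) ∧ Module.Finite (KR f N) (integralClosure (KR f N) M) := by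
  haveI := KR.isRegularLocalRing hf hN1
  haveI := RGLib.Kummer.finite f (fun _ => N) (fun _ => hN1)
  haveI : IsIntegrallyClosed A := RegLoc6.isIntegrallyClosed_of_isRegularLocalRing A
  obtain ⟨_, _⟩ := KR.finite_separable hN1 hNA hf.ne_zero K₀ Kn
  have hFne := hf.prod_ne_zero
  have hFK : algebraMap A Kn (∏ i, f i) ≠ 0 := by
    rw [IsScalarTower.algebraMap_apply A K₀ Kn]
    exact (_root_.map_ne_zero _).2 ((map_ne_zero_iff _ (IsFractionRing.injective A K₀)).2 hFne)
  obtain ⟨_, _⟩ := finite_separable (AF := Localization.Away (∏ i, f i)) hFK ψ hgen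
  haveI : IsIntegrallyClosed (KR f N) := RegLoc6.isIntegrallyClosed_of_isRegularLocalRing _
  let D := integralClosure (KR f N) M
  haveI : Module.Finite (KR f N) D := IsIntegralClosure.finite (KR f N) Kn M D
  haveI : IsFractionRing D M := IsIntegralClosure.isFractionRing_of_finite_extension (KR f N) Kn M D
  haveI : IsIntegrallyClosed D := integralClosure.isIntegrallyClosedOfFiniteExtension (R := KR f N) (L := M) Kn
  haveI : IsNoetherianRing D := IsNoetherianRing.of_finite (KR f N) D
  have hinj : Function.Injective (algebraMap (KR f N) D) := fun x y h =>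
    IsFractionRing.injective (KR f N) Kn ((algebraMap Kn M).injective (by
      rw [← IsScalarTower.algebraMap_apply, ← IsScalarTower.algebraMap_apply]
      exact congrArg Subtype.val h))
  refine ⟨?_, inferInstance⟩
  by_cases hdim : (1 : WithBot ℕ∞) ≤ ringKrullDim (KR f N)
  · refine Pi1Ext.BranchPurity.etale_of_finite_normal (KR f N) D hinj hdim fun Q hQ => ?_
    have hu : Algebra.IsUnramifiedAt (KR f N) Q.asIdeal :=
      isUnramifiedAt_of_height_one (K₀ := K₀) (K₁ := Kn) (M := M) (AF := Localization.Away (∏ i, f i)) f hf.ne_zero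
        (fun P hP hF => by
          obtain ⟨i, -, hi⟩ := hP.prod_mem_iff.1 hF
          exact ⟨i, hi⟩) hFne htame ψ hgen N hN1 (RGLib.Kummer.T f (fun _ => N))
        (fun i => RGLib.Kummer.T_pow f (fun _ => N) i) D Q.asIdeal hQ d hd (fun i _ => hN i)
    have hmem : Q ∈ Algebra.unramifiedLocus (KR f N) D := hu
    rwa [Algebra.unramifiedLocus_eq_compl_support] at hmem
  · -- the base is a field
    have hfield : IsField (KR f N) := by
      suffices Ring.KrullDimLE 0 (KR f N) from Ring.KrullDimLE.isField_of_isDomain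
      rw [Ring.krullDimLE_iff]
      obtain ⟨m, hm⟩ : ∃ m : ℕ, ringKrullDim (KR f N) = m := ⟨_, IsRegularLocalRing.spanFinrank_maximalIdeal.symm⟩
      rw [hm] at hdim ⊢
      norm_cast at hdim ⊢
      omega
    haveI : Algebra.FormallyUnramified (KR f N) Kn :=
      Algebra.FormallyUnramified.of_isLocalization (nonZeroDivisors (KR f N))
    haveI : Algebra.FormallyUnramified Kn M := Algebra.FormallyUnramified.of_isSeparable Kn M
    haveI : Algebra.FormallyUnramified (KR f N) M := Algebra.FormallyUnramified.comp (KR f N) Kn M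
    have hDfield : IsField D := @isField_of_isIntegral_of_isField' (KR f N) D _ _ _ _ _ hfield
    have hsurj : Function.Surjective (algebraMap D M) := fun x => by
      obtain ⟨a, b, hb, rfl⟩ := IsFractionRing.div_surjective (A := D) x
      obtain ⟨c, hc⟩ := hDfield.mul_inv_cancel (nonZeroDivisors.ne_zero hb)
      refine ⟨a * c, ?_⟩
      rw [map_mul, div_eq_mul_inv]
      congr 1
      exact eq_inv_of_mul_eq_one_right (by rw [← map_mul, hc, map_one])
    let e : D ≃ₐ[KR f N] M := AlgEquiv.ofBijective (IsScalarTower.toAlgHom (KR f N) D M)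
      ⟨Subtype.val_injective, hsurj⟩
    haveI : Algebra.FormallyUnramified (KR f N) D := Algebra.FormallyUnramified.of_equiv e.symm
    letI := hfield.toField
    haveI : Module.Flat (KR f N) D := inferInstance
    haveI : Algebra.FinitePresentation (KR f N) D := Algebra.FinitePresentation.of_finiteType.mp inferInstance
    exact Algebra.Etale.of_formallyUnramified_of_flat

end Groth.Agent.AbhAbs
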