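import Mathlib
import Groth.Agent.RGLib.Kummer
import Groth.Agent.Hensel.HenselizationDescent
import Groth.Agent.Hensel.IntegralStrict
import Groth.Agent.S0537
import Groth.Agent.S0538
import Groth.Agent.S0539
import Groth.Agent.RegLoc6.Basic

/-!
# Regular systems of parameters along Kummer extensions and strict henselization
-/

set_option autoImplicit false
set_option linter.style.haveILetI false

universe u

open IsLocalRing

namespace Groth.Agent.AbhAbs

/-- Parts of regular systems of parameters pass to extensions of the same dimension generated by lifts. -/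
theorem linearIndependent_lift {A B : Type u} [CommRing A] [IsRegularLocalRing A] [CommRing B] [IsRegularLocalRing B]
    [Algebra A B] (hdim : ringKrullDim B = ringKrullDim A) {r : ℕ} (x : Fin r → A) (hx : ∀ i, x i ∈ maximalIdeal A)
    (hli : LinearIndependent (ResidueField A) fun i => (maximalIdeal A).toCotangent ⟨x i, hx i⟩) (x' : Fin r → B)
    (hx' : ∀ i, x' i ∈ maximalIdeal B) (hxx : ∀ i, algebraMap A B (x i) ∈ Ideal.span (Set.range x'))
    (hmax : maximalIdeal B ≤ Ideal.span (Set.range x') ⊔ (maximalIdeal A).map (algebraMap A B))
    (hloc : (maximalIdeal A).map (algebraMap A B) ≤ maximalIdeal B) :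
    LinearIndependent (ResidueField B) fun i => (maximalIdeal B).toCotangent ⟨x' i, hx' i⟩ := by
  classical
  obtain ⟨W, hW⟩ := Submodule.exists_isCompl
    (Submodule.span (ResidueField A) (Set.range fun i => (maximalIdeal A).toCotangent ⟨x i, hx i⟩))
  let b := Module.finBasis (ResidueField A) W
  choose y hy using fun j => (maximalIdeal A).toCotangent_surjective (b j : CotangentSpace A)
  have hr : r + Module.finrank (ResidueField A) W = Module.finrank (ResidueField A) (CotangentSpace A) := by
    rw [← Submodule.finrank_add_eq_of_isCompl hW, finrank_span_eq_card hli, Fintype.card_fin]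
  have hA := (IsRegularLocalRing.iff_finrank_cotangentSpace A).1 inferInstance
  have hB := (IsRegularLocalRing.iff_finrank_cotangentSpace B).1 inferInstance
  have hfin : Module.finrank (ResidueField A) (CotangentSpace A) = Module.finrank (ResidueField B) (CotangentSpace B) := by
    have := hdim
    rw [← hA, ← hB] at this
    exact_mod_cast this.symm
  let v : Fin r ⊕ Fin (Module.finrank (ResidueField A) W) → maximalIdeal B :=
    Sum.elim (fun i => ⟨x' i, hx' i⟩) (fun j => ⟨algebraMap A B (y j : A), hloc (Ideal.mem_map_of_mem _ (y j).2)⟩)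
  have hgenA : maximalIdeal A ≤ Ideal.span (Set.range x ∪ Set.range fun j => (y j : A)) := by
    have h1 : Submodule.span A (Set.range (fun i => (⟨x i, hx i⟩ : maximalIdeal A)) ∪ Set.range y) = ⊤ := by
      refine IsLocalRing.CotangentSpace.span_image_eq_top_iff.1 ?_
      rw [Set.image_union, ← Set.range_comp, ← Set.range_comp, Submodule.span_union]
      refine eq_top_iff.2 (hW.sup_eq_top.symm.le.trans (sup_le_sup le_rfl ?_))
      have : Set.range ((maximalIdeal A).toCotangent ∘ y) = W.subtype '' Set.range b := by
        rw [← Set.range_comp]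
        exact congrArg Set.range (funext hy)
      rw [this, ← Submodule.map_span, b.span_eq, Submodule.map_top, Submodule.range_subtype]
    intro a ha
    have h2 : a ∈ (Submodule.span A (Set.range (fun i => (⟨x i, hx i⟩ : maximalIdeal A)) ∪ Set.range y)).map
        (maximalIdeal A).subtype := by
      rw [h1, Submodule.map_top, Submodule.range_subtype]
      exact ha
    rw [Submodule.map_span, Set.image_union, ← Set.range_comp, ← Set.range_comp] at h2
    exact h2
  have hspanI : maximalIdeal B = Ideal.span (Subtype.val '' Set.range v) := by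
    refine le_antisymm ?_ (Ideal.span_le.2 (by rintro _ ⟨z, -, rfl⟩; exact z.2))
    have hx'v : Ideal.span (Set.range x') ≤ Ideal.span (Subtype.val '' Set.range v) :=
      Ideal.span_mono (by rintro _ ⟨i, rfl⟩; exact ⟨_, ⟨Sum.inl i, rfl⟩, rfl⟩)
    refine hmax.trans (sup_le hx'v ((Ideal.map_mono hgenA).trans ?_))
    rw [Ideal.map_span, Ideal.span_le]
    rintro _ ⟨_, ⟨i, rfl⟩ | ⟨j, rfl⟩, rfl⟩
    · exact hx'v (hxx i)
    · exact Ideal.subset_span ⟨_, ⟨Sum.inr j, rfl⟩, rfl⟩
  have htop : ⊤ ≤ Submodule.span (ResidueField B) (Set.range fun k => (maximalIdeal B).toCotangent (v k)) := by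
    rw [show (Set.range fun k => (maximalIdeal B).toCotangent (v k)) = (maximalIdeal B).toCotangent '' Set.range v from
      Set.range_comp _ _]
    refine (IsLocalRing.CotangentSpace.span_image_eq_top_iff.2 ?_).ge
    refine Submodule.map_injective_of_injective (maximalIdeal B).subtype_injective ?_
    rw [Submodule.map_span, Submodule.map_top, Submodule.range_subtype]
    exact hspanI.symm
  have hli' : LinearIndependent (ResidueField B) fun k => (maximalIdeal B).toCotangent (v k) :=
    linearIndependent_of_top_le_span_of_card_eq_finrank htop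
      (by rw [Fintype.card_sum, Fintype.card_fin, Fintype.card_fin, hr, hfin])
  exact hli'.comp Sum.inl Sum.inl_injective

open RGLib.Kummer in
/-- The roots form part of a regular system of parameters. -/
theorem linearIndependent_roots {A : Type u} [CommRing A] [IsRegularLocalRing A] {r : ℕ} (f : Fin r → A)
    (hm : ∀ i, f i ∈ maximalIdeal A)
    (hli : LinearIndependent (ResidueField A) fun i => (maximalIdeal A).toCotangent ⟨f i, hm i⟩)
    (n : Fin r → ℕ) (hn : ∀ i, 1 ≤ n i) [IsRegularLocalRing (K A f n)] :
    ∃ h : ∀ i, T f n i ∈ maximalIdeal (K A f n),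
      LinearIndependent (ResidueField (K A f n)) fun i => (maximalIdeal (K A f n)).toCotangent ⟨T f n i, h i⟩ := by
  haveI := finite f n hn
  have hJ : maximalIdeal (K A f n) = J f n (maximalIdeal A) :=
    (maximalIdeal_unique f n hn hm).2 _ (maximalIdeal.isMaximal _)
  refine ⟨fun i => hJ ▸ Ideal.mem_sup_left (Ideal.subset_span ⟨i, rfl⟩), ?_⟩
  refine linearIndependent_lift ?_ f hm hli _ _ (fun i => ?_) hJ.le (hJ ▸ le_sup_right)
  · exact EGA41Lib.ringKrullDim_eq_of_integral (injective f n hn)
  · rw [← T_pow]
    exact Ideal.pow_mem_of_mem _ (Ideal.subset_span (Set.mem_range_self i)) _ (hn i)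

/-- A regular local ring has a strictly henselian faithfully flat regular local extension of the same dimension. -/
theorem exists_strictHenselization (R : Type u) [CommRing R] [IsRegularLocalRing R] :
    ∃ (S : Type u) (_ : CommRing S) (_ : IsRegularLocalRing S) (_ : IsDomain S) (_ : Algebra R S)
      (_ : IsLocalHom (algebraMap R S)) (_ : Hensel.IsStrictHenselization R S) (_ : Module.FaithfullyFlat R S),
      HenselianLocalRing S ∧ IsSepClosed (ResidueField S) ∧
      (maximalIdeal R).map (algebraMap R S) = maximalIdeal S ∧ ringKrullDim S = ringKrullDim R := by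
  obtain ⟨S, _, _, _, _, hS⟩ := S0537.result R
  haveI := hS
  have hlike := Hensel.isHenzLike_of_isStrictHenselization R S
  haveI : IsRegularLocalRing S := (hlike.isRegularLocalRing_iff).1 inferInstance
  haveI := RegLoc6.isDomain_of_isRegularLocalRing S
  haveI : Module.FaithfullyFlat R S := S0539.result R S
  haveI := hS.isSepClosure
  exact ⟨S, inferInstance, inferInstance, inferInstance, inferInstance, inferInstance, hS, inferInstance,
    hS.henselian, IsSepClosure.sep_closed (ResidueField R), S0538.result R S, hlike.ringKrullDim_eq⟩

end Groth.Agent.AbhAbs
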