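import Mathlib
import Groth.Agent.Hensel.IntegralStrict

/-!
# Finite unramified extensions with one point
-/

set_option autoImplicit false

universe u

open IsLocalRing

namespace Groth.Agent.AbhAbs

variable {R C : Type u} [CommRing R] [IsLocalRing R] [CommRing C] [Algebra R C] [Module.Finite R C]
  [Algebra.FormallyUnramified R C]

/-- A finite unramified local algebra with trivial residue field extension is a quotient of the base. -/
theorem surjective_of_residue [IsLocalRing C] [IsLocalHom (algebraMap R C)]
    (h : ∀ z : C, ∃ c : R, z - algebraMap R C c ∈ maximalIdeal C) : Function.Surjective (algebraMap R C) := by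
  have hm : (maximalIdeal R).map (algebraMap R C) = maximalIdeal C := Algebra.FormallyUnramified.map_maximalIdeal
  intro z
  have htop : (⊤ : Submodule R C) ≤ LinearMap.range (Algebra.linearMap R C) := by
    refine Submodule.le_of_le_smul_of_le_jacobson_bot (I := maximalIdeal R) Module.Finite.fg_top
      (maximalIdeal_le_jacobson _) fun w _ => ?_
    obtain ⟨c, hc⟩ := h w
    rw [← hm] at hc
    have h2 : w - algebraMap R C c ∈ (maximalIdeal R) • (⊤ : Submodule R C) := by
      rw [Ideal.smul_top_eq_map]
      exact hc
    rw [← add_sub_cancel (algebraMap R C c) w]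
    exact Submodule.add_mem_sup ⟨c, rfl⟩ h2
  exact htop Submodule.mem_top

/-- A finite unramified algebra all of whose `q`-th powers come from the base modulo every maximal ideal, for a
power `q` of the residue characteristic, is a quotient of the base. -/
theorem surjective_of_pow [Nontrivial C] {p : ℕ} (hp : p.Prime) (hpR : (p : R) ∈ maximalIdeal R) (k : ℕ)
    (h : ∀ z : C, ∃ c : R, ∀ Q : Ideal C, Q.IsMaximal → z ^ p ^ k - algebraMap R C c ∈ Q) :
    Function.Surjective (algebraMap R C) := by
  haveI : Algebra.IsIntegral R C := inferInstance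
  have hover : ∀ Q : Ideal C, Q.IsMaximal → Q.comap (algebraMap R C) = maximalIdeal R := fun Q _ =>
    eq_maximalIdeal (Ideal.isMaximal_comap_of_isIntegral_of_isMaximal Q)
  have huniq : ∀ Q Q' : Ideal C, Q.IsMaximal → Q'.IsMaximal → Q ≤ Q' := fun Q Q' hQ hQ' z hz => by
    obtain ⟨c, hc⟩ := h z
    have hcQ : algebraMap R C c ∈ Q := by
      have := Q.sub_mem (Q.pow_mem_of_mem hz (p ^ k) (pow_pos hp.pos k)) (hc Q hQ)
      rwa [sub_sub_cancel] at this
    have hcQ' : algebraMap R C c ∈ Q' := by
      rw [← Ideal.mem_comap, hover Q' hQ', ← hover Q hQ]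
      exact hcQ
    refine hQ'.isPrime.mem_of_pow_mem (p ^ k) ?_
    have := Q'.add_mem (hc Q' hQ') hcQ'
    rwa [sub_add_cancel] at this
  obtain ⟨Q₀, hQ₀⟩ := Ideal.exists_maximal C
  haveI : IsLocalRing C := IsLocalRing.of_unique_max_ideal
    ⟨Q₀, hQ₀, fun Q hQ => le_antisymm (huniq Q Q₀ hQ hQ₀) (huniq Q₀ Q hQ₀ hQ)⟩
  haveI : IsLocalHom (algebraMap R C) := by
    refine ((local_hom_TFAE (algebraMap R C)).out 0 4).2 ?_
    exact hover _ (maximalIdeal.isMaximal C)
  haveI : Algebra.IsSeparable (ResidueField R) (ResidueField C) := inferInstance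
  haveI : CharP (ResidueField R) p := by
    have h0 : (p : ResidueField R) = 0 := by
      rw [← map_natCast (residue R)]
      exact (residue_eq_zero_iff _).2 hpR
    exact (CharP.charP_iff_prime_eq_zero hp).2 h0
  haveI : ExpChar (ResidueField R) p := ExpChar.prime hp
  haveI : IsPurelyInseparable (ResidueField R) (ResidueField C) := by
    rw [isPurelyInseparable_iff_pow_mem (ResidueField R) p]
    intro x
    obtain ⟨z, rfl⟩ := residue_surjective x
    obtain ⟨c, hc⟩ := h z
    refine ⟨k, residue R c, ?_⟩
    rw [← map_pow]
    show residue C (algebraMap R C c) = _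
    rw [eq_comm, ← sub_eq_zero, ← map_sub, residue_eq_zero_iff]
    exact hc _ (maximalIdeal.isMaximal C)
  refine surjective_of_residue fun z => ?_
  obtain ⟨c', hc'⟩ := IsPurelyInseparable.surjective_algebraMap_of_isSeparable (ResidueField R) (ResidueField C)
    (residue C z)
  obtain ⟨c, rfl⟩ := residue_surjective c'
  refine ⟨c, (residue_eq_zero_iff _).1 ?_⟩
  rw [map_sub, sub_eq_zero, ← hc']
  rfl

/-- A finite unramified domain over a strictly henselian local ring is a quotient of it. -/
theorem surjective_of_strictlyHenselian {R C : Type u} [CommRing R] [HenselianLocalRing R]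
    [IsSepClosed (ResidueField R)] [CommRing C] [IsDomain C] [Algebra R C] [Module.Finite R C]
    [Algebra.FormallyUnramified R C] : Function.Surjective (algebraMap R C) := by
  haveI : Algebra.IsIntegral R C := inferInstance
  haveI : IsLocalRing C := Groth.Agent.Hensel.isLocalRing_of_isIntegral_domain R C
  haveI : IsLocalHom (algebraMap R C) := Groth.Agent.Hensel.isLocalHom_of_isIntegral_local R C
  haveI : Algebra.IsSeparable (ResidueField R) (ResidueField C) := inferInstance
  refine surjective_of_residue fun z => ?_
  obtain ⟨c', hc'⟩ := IsSepClosed.algebraMap_surjective (ResidueField R) (ResidueField C) (residue C z)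
  obtain ⟨c, rfl⟩ := residue_surjective c'
  refine ⟨c, (residue_eq_zero_iff _).1 ?_⟩
  rw [map_sub, sub_eq_zero, ← hc']
  rfl

end Groth.Agent.AbhAbs
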