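import Mathlib
import Groth.Agent.AbhAbs.Unique

/-!
# Points of finite unramified algebras
-/

set_option autoImplicit false
set_option linter.style.haveILetI false

universe u

open IsLocalRing TensorProduct

namespace Groth.Agent.AbhAbs

/-- Points of a finite unramified algebra with values in an extension field of a strictly henselian ring are integral
points. -/
theorem mem_range_of_strictlyHenselian {R H Ω D : Type u} [CommRing R] [CommRing H] [HenselianLocalRing H]
    [IsSepClosed (ResidueField H)] [Algebra R H] [Field Ω] [Algebra H Ω] [Algebra R Ω] [IsScalarTower R H Ω]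
    [CommRing D] [Algebra R D] [Module.Finite R D] [Algebra.FormallyUnramified R D] (φ : D →ₐ[R] Ω) (d : D) :
    φ d ∈ (algebraMap H Ω).range := by
  let θ : H ⊗[R] D →ₐ[H] Ω := Algebra.TensorProduct.lift (Algebra.ofId H Ω) φ fun _ _ => Commute.all _ _
  haveI : Module.Finite H θ.range := Module.Finite.of_surjective θ.rangeRestrict.toLinearMap θ.rangeRestrict_surjective
  haveI : Algebra.FormallyUnramified H θ.range :=
    Algebra.FormallyUnramified.of_surjective θ.rangeRestrict θ.rangeRestrict_surjective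
  obtain ⟨h, hh⟩ := surjective_of_strictlyHenselian (R := H) (C := θ.range) (θ.rangeRestrict (1 ⊗ₜ d))
  refine ⟨h, ?_⟩
  have h2 : algebraMap H Ω h = θ (1 ⊗ₜ d) := congrArg Subtype.val hh
  rw [h2]
  simp [θ]

/-- Points in a radicial extension of a finite algebra unramified over the prime are rational. -/
theorem exists_fraction_of_radicial {R H O F' D : Type u} [CommRing R] [CommRing H] [IsDomain H] [Algebra R H]
    [CommRing O] [IsDomain O] [IsIntegrallyClosed O] [Algebra H O] [Field F'] [Algebra O F'] [IsFractionRing O F']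
    [Algebra H F'] [IsScalarTower H O F'] (hinj : Function.Injective (algebraMap H O)) [Algebra.IsIntegral H O]
    [Algebra R F'] [IsScalarTower R H F']
    (P : Ideal H) [P.IsPrime] {p : ℕ} (hp : p.Prime) (hpP : (p : H) ∈ P) (k : ℕ)
    (hpow : ∀ o : O, ∃ (c : H) (w : O), o ^ p ^ k = algebraMap H O c + (p : O) * w)
    [CommRing D] [Algebra R D] [Module.Finite R D] (s : R) (hs : algebraMap R H s ∉ P)
    [Algebra.FormallyUnramified R (Localization.Away (algebraMap R D s))] (φ : D →ₐ[R] F') (d : D) :
    ∃ a b : H, b ∉ P ∧ φ d * algebraMap H F' b = algebraMap H F' a := by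
  let R₁ := Localization.AtPrime P
  have hinjF : Function.Injective (algebraMap H F') := by
    rw [IsScalarTower.algebraMap_eq H O F']
    exact (IsFractionRing.injective O F').comp hinj
  have hne : ∀ y : P.primeCompl, algebraMap H F' y ≠ 0 := fun y =>
    (map_ne_zero_iff _ hinjF).2 fun h => y.2 (h ▸ P.zero_mem)
  letI : Algebra R₁ F' := (IsLocalization.lift (M := P.primeCompl) fun y => isUnit_iff_ne_zero.2 (hne y)).toAlgebra
  haveI : IsScalarTower H R₁ F' := IsScalarTower.of_algebraMap_eq fun a => (IsLocalization.lift_eq _ a).symm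
  haveI : IsScalarTower R R₁ F' := IsScalarTower.of_algebraMap_eq fun a => by
    rw [IsScalarTower.algebraMap_apply R H R₁, ← IsScalarTower.algebraMap_apply H R₁ F', ← IsScalarTower.algebraMap_apply]
  let θ : R₁ ⊗[R] D →ₐ[R₁] F' := Algebra.TensorProduct.lift (Algebra.ofId R₁ F') φ fun _ _ => Commute.all _ _
  let C := θ.range
  have hsu : IsUnit (algebraMap R F' s) := by
    rw [IsScalarTower.algebraMap_apply R H F']
    exact isUnit_iff_ne_zero.2 (hne ⟨_, hs⟩)
  have hφs : ∀ y : Submonoid.powers (algebraMap R D s), IsUnit (φ y) := by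
    rintro ⟨_, m, rfl⟩
    rw [map_pow, φ.commutes]
    exact hsu.pow m
  let φ₁ : Localization.Away (algebraMap R D s) →ₐ[R] F' := IsLocalization.liftAlgHom (f := φ) hφs
  let θ₁ : R₁ ⊗[R] Localization.Away (algebraMap R D s) →ₐ[R₁] F' :=
    Algebra.TensorProduct.lift (Algebra.ofId R₁ F') φ₁ fun _ _ => Commute.all _ _
  have hθ1 : ∀ z, θ₁ z ∈ C := by
    intro z
    induction z using TensorProduct.induction_on with
    | zero => rw [map_zero]; exact C.zero_mem
    | tmul a l =>
      obtain ⟨x, ⟨_, m, rfl⟩, rfl⟩ := IsLocalization.exists_mk'_eq (Submonoid.powers (algebraMap R D s)) l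
      obtain ⟨u, hu⟩ := IsLocalization.map_units R₁ (⟨_, hs⟩ : P.primeCompl)
      refine ⟨(a * (↑u⁻¹ : R₁) ^ m) ⊗ₜ x, ?_⟩
      have h1 := congrArg φ₁ (IsLocalization.mk'_spec (Localization.Away (algebraMap R D s)) x
        (⟨_, m, rfl⟩ : Submonoid.powers (algebraMap R D s)))
      have hv : ∀ y, φ₁ (algebraMap D _ y) = φ y := fun y => IsLocalization.lift_eq _ y
      rw [map_mul, hv, hv, map_pow, φ.commutes] at h1
      show θ _ = θ₁ _
      simp only [θ, θ₁, Algebra.TensorProduct.lift_tmul, Algebra.ofId_apply]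
      rw [← h1]
      have hu1 : algebraMap R₁ F' (↑u⁻¹ : R₁) * algebraMap R F' s = 1 := by
        rw [IsScalarTower.algebraMap_apply R H F', IsScalarTower.algebraMap_apply H R₁ F',
          show algebraMap H R₁ (algebraMap R H s) = u from hu.symm, ← map_mul, Units.inv_mul, map_one]
      rw [map_mul, map_pow]
      calc algebraMap R₁ F' a * algebraMap R₁ F' (↑u⁻¹ : R₁) ^ m *
            (φ₁ (IsLocalization.mk' _ x (⟨_, m, rfl⟩ : Submonoid.powers (algebraMap R D s))) * algebraMap R F' s ^ m)
          = algebraMap R₁ F' a * φ₁ (IsLocalization.mk' _ x (⟨_, m, rfl⟩ : Submonoid.powers (algebraMap R D s))) *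
              (algebraMap R₁ F' (↑u⁻¹ : R₁) * algebraMap R F' s) ^ m := by ring
        _ = _ := by rw [hu1, one_pow, mul_one]
    | add x y hx hy => rw [map_add]; exact C.add_mem hx hy
  haveI : Module.Finite R₁ C := Module.Finite.of_surjective θ.rangeRestrict.toLinearMap θ.rangeRestrict_surjective
  haveI : Algebra.FormallyUnramified R₁ C := by
    refine Algebra.FormallyUnramified.of_surjective (θ₁.codRestrict C hθ1) ?_
    rintro ⟨_, z, rfl⟩
    refine ⟨Algebra.TensorProduct.map (AlgHom.id R₁ R₁) (IsScalarTower.toAlgHom R D _) z, Subtype.ext ?_⟩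
    show θ₁ _ = θ z
    induction z using TensorProduct.induction_on with
    | zero => simp
    | tmul a x =>
      simp only [Algebra.TensorProduct.map_tmul, θ, θ₁, Algebra.TensorProduct.lift_tmul, IsScalarTower.toAlgHom_apply]
      congr 1
      exact IsLocalization.lift_eq _ x
    | add x y hx hy => simp only [map_add, hx, hy]
  haveI : Algebra.IsIntegral R₁ C := inferInstance
  have hcond : ∀ z : C, ∃ c : R₁, ∀ Q : Ideal C, Q.IsMaximal → z ^ p ^ k - algebraMap R₁ C c ∈ Q := by
    intro z
    have hz : IsIntegral R₁ (z : F') := (Algebra.IsIntegral.isIntegral z).map C.val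
    obtain ⟨t, ht⟩ := IsIntegral.exists_multiple_integral_of_isLocalization P.primeCompl (Rₘ := R₁) (z : F') hz
    obtain ⟨o, ho⟩ := IsIntegrallyClosed.isIntegral_iff.1 (ht.tower_top (A := O))
    rw [Submonoid.smul_def, Algebra.smul_def] at ho
    obtain ⟨c, w, hw⟩ := hpow o
    obtain ⟨u, hu⟩ := IsLocalization.map_units R₁ t
    let c₁ : R₁ := algebraMap H R₁ c * (↑u⁻¹ : R₁) ^ p ^ k
    refine ⟨c₁, fun Q hQ => ?_⟩
    let C' := integralClosure R₁ F'
    let ι : C →ₐ[R₁] C' := C.val.codRestrict C' fun x => (Algebra.IsIntegral.isIntegral x).map C.val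
    letI : Algebra C C' := ι.toRingHom.toAlgebra
    haveI : IsScalarTower R₁ C C' := IsScalarTower.of_algebraMap_eq fun a => (ι.commutes a).symm
    haveI : Algebra.IsIntegral C C' := Algebra.IsIntegral.tower_top (R := R₁)
    obtain ⟨Q', -, hQ', hQQ⟩ := Ideal.exists_ideal_over_prime_of_isIntegral Q (⊥ : Ideal C')
      (fun x hx => by
        have h0 : algebraMap C C' x = 0 := hx
        rw [show x = 0 from Subtype.ext (congrArg (fun y : C' => (y : F')) h0)]
        exact zero_mem Q)
    rw [← hQQ, Ideal.mem_comap]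
    have hQR : Q.comap (algebraMap R₁ C) = maximalIdeal R₁ :=
      eq_maximalIdeal (Ideal.isMaximal_comap_of_isIntegral_of_isMaximal Q)
    have hpQ : (p : C') ∈ Q' := by
      have h0 : (p : C) ∈ Q := by
        rw [← map_natCast (algebraMap R₁ C), ← Ideal.mem_comap, hQR, ← map_natCast (algebraMap H R₁)]
        exact (IsLocalization.AtPrime.to_map_mem_maximal_iff R₁ P _).2 hpP
      rw [← hQQ, Ideal.mem_comap, map_natCast] at h0
      exact h0
    have hwint : IsIntegral R₁ (algebraMap O F' w * algebraMap R₁ F' (↑u⁻¹ : R₁) ^ p ^ k) := by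
      refine IsIntegral.mul ?_ (isIntegral_algebraMap.pow _)
      exact ((Algebra.IsIntegral.isIntegral (R := H) w).map (IsScalarTower.toAlgHom H O F')).tower_top
    have hkey : algebraMap C C' (z ^ p ^ k - algebraMap R₁ C c₁) = (p : C') * ⟨_, hwint⟩ := by
      refine Subtype.ext ?_
      show (z : F') ^ p ^ k - algebraMap R₁ F' c₁ = (p : F') * _
      have hu' : algebraMap H F' (t : H) * algebraMap R₁ F' (↑u⁻¹ : R₁) = 1 := by
        rw [IsScalarTower.algebraMap_apply H R₁ F', show algebraMap H R₁ (t : H) = u from hu.symm, ← map_mul,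
          Units.mul_inv, map_one]
      have hw' := congrArg (algebraMap O F') hw
      rw [map_pow, ho, map_add, map_mul, map_natCast, ← IsScalarTower.algebraMap_apply H O F', mul_pow] at hw'
      rw [map_mul, map_pow, ← IsScalarTower.algebraMap_apply H R₁ F']
      have hu'' := congrArg (· ^ p ^ k) hu'
      simp only [mul_pow, one_pow] at hu''
      linear_combination (algebraMap R₁ F' (↑u⁻¹ : R₁) ^ p ^ k) * hw' - ((z : F') ^ p ^ k) * hu''
    rw [hkey]
    exact Ideal.mul_mem_right _ _ hpQ
  haveI : Nontrivial C := inferInstance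
  obtain ⟨c, hc⟩ := surjective_of_pow (R := R₁) (C := C) hp
    (by rw [← map_natCast (algebraMap H R₁)]; exact (IsLocalization.AtPrime.to_map_mem_maximal_iff R₁ P _).2 hpP)
    k hcond (θ.rangeRestrict (1 ⊗ₜ d))
  have hc' : algebraMap R₁ F' c = φ d := by
    rw [show algebraMap R₁ F' c = θ (1 ⊗ₜ d) from congrArg Subtype.val hc]
    simp [θ]
  obtain ⟨a, b, rfl⟩ := IsLocalization.exists_mk'_eq P.primeCompl c
  refine ⟨a, b, b.2, ?_⟩
  rw [← hc', IsScalarTower.algebraMap_apply H R₁ F' b, ← map_mul, IsLocalization.mk'_spec,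
    ← IsScalarTower.algebraMap_apply]

end Groth.Agent.AbhAbs
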