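import Mathlib
import Groth.Agent.AbhAbs.Model
import Groth.Agent.AbhAbs.Params
import Groth.Agent.AbhAbs.Split

/-!
# Geometric points of a tame cover are rational over a prime-to-`p` Kummer extension of a strictly henselian ring
-/

set_option autoImplicit false
set_option linter.style.haveILetI false
set_option backward.isDefEq.respectTransparency false
set_option backward.isDefEq.respectTransparency.types false
set_option maxHeartbeats 1000000

universe u

open IsLocalRing TensorProduct

namespace Groth.Agent.AbhAbs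

variable {A : Type u} [CommRing A] [IsRegularLocalRing A] [IsDomain A] {r : ℕ} {f : Fin r → A}
  [∀ i, (Ideal.span {f i}).IsPrime]
  {B : Type u} [CommRing B] [Algebra A B] [Algebra (Localization.Away (∏ i, f i)) B]
  [IsScalarTower A (Localization.Away (∏ i, f i)) B] [Algebra.Etale (Localization.Away (∏ i, f i)) B]
  [Module.Finite (Localization.Away (∏ i, f i)) B]

/-- A strictly henselian regular domain with `q`-th roots of part of a regular system of parameters. -/
theorem exists_rootRing {H : Type u} [CommRing H] [IsRegularLocalRing H] [IsDomain H] (hH : HenselianLocalRing H)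
    [IsSepClosed (ResidueField H)] {r : ℕ} (t : Fin r → H) (htm : ∀ i, t i ∈ maximalIdeal H)
    (hli : LinearIndependent (ResidueField H) fun i => (maximalIdeal H).toCotangent ⟨t i, htm i⟩)
    (q : ℕ) (hq : 1 ≤ q) (Ω : Type u) [Field Ω] [IsAlgClosed Ω] [Algebra H Ω]
    (hΩ : Function.Injective (algebraMap H Ω)) :
    ∃ (O : Type u) (_ : CommRing O) (_ : IsDomain O) (_ : IsIntegrallyClosed O) (_ : HenselianLocalRing O)
      (_ : Algebra H O) (j : O →ₐ[H] Ω) (s : Fin r → O),
      IsSepClosed (ResidueField O) ∧ Algebra.IsIntegral H O ∧ Function.Injective (algebraMap H O) ∧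
      Function.Injective j ∧ (∀ i, s i ^ q = algebraMap H O (t i)) ∧
      (q = 1 → Function.Surjective (algebraMap H O)) ∧
      ∀ (p k : ℕ), p.Prime → q = p ^ k → ∀ o : O, ∃ (c : H) (w : O), o ^ p ^ k = algebraMap H O c + (p : O) * w := by
  let O := RGLib.Kummer.K H t (fun _ => q)
  haveI hOreg : IsRegularLocalRing O := RGLib.Kummer.isRegularLocalRing t (fun _ => q) (fun _ => hq) htm hli
  haveI : IsDomain O := RegLoc6.isDomain_of_isRegularLocalRing O
  haveI : IsIntegrallyClosed O := RegLoc6.isIntegrallyClosed_of_isRegularLocalRing O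
  haveI := RGLib.Kummer.finite t (fun _ => q) (fun _ => hq)
  have hOinj : Function.Injective (algebraMap H O) := RGLib.Kummer.injective t (fun _ => q) (fun _ => hq)
  haveI := hH
  haveI : IsLocalHom (algebraMap H O) := Hensel.isLocalHom_of_isIntegral_local H O
  haveI hOhens : HenselianLocalRing O := Hensel.henselianLocalRing_of_isIntegral_local H O
  haveI : FaithfulSMul H O := (faithfulSMul_iff_algebraMap_injective H O).2 hOinj
  haveI : FaithfulSMul H Ω := (faithfulSMul_iff_algebraMap_injective H Ω).2 hΩ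
  haveI : Algebra.IsAlgebraic H O := inferInstance
  let j : O →ₐ[H] Ω := IsAlgClosed.lift
  have hjinj : Function.Injective j := by
    refine (RingHom.injective_iff_ker_eq_bot j.toRingHom).2 (Ideal.eq_bot_of_comap_eq_bot (R := H) ?_)
    rw [eq_bot_iff]
    intro a ha
    have h1 : j (algebraMap H O a) = 0 := ha
    rw [j.commutes, ← map_zero (algebraMap H Ω)] at h1
    exact hΩ h1
  refine ⟨O, inferInstance, inferInstance, inferInstance, hOhens, inferInstance, j,
    RGLib.Kummer.T t (fun _ => q), (Hensel.residueField_of_isIntegral H O).1, inferInstance, hOinj, hjinj,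
    fun i => RGLib.Kummer.T_pow t (fun _ => q) i, fun hq1 z => ?_, fun p k hp hpk o => ?_⟩
  · subst hq1
    have hz : z ∈ Algebra.adjoin H (Set.range (RGLib.Kummer.T t (fun _ => 1))) := by
      rw [RGLib.Kummer.adjoin_T]; trivial
    refine Algebra.mem_bot.1 ((Algebra.adjoin_le ?_ : _ ≤ (⊥ : Subalgebra H O)) hz)
    rintro _ ⟨i, rfl⟩
    refine Algebra.mem_bot.2 ⟨t i, ?_⟩
    rw [← RGLib.Kummer.T_pow t (fun _ => 1) i]
    simp
  · subst hpk
    exact exists_pow_eq hp k t o

/-- An abstract fraction field over `K₀`. -/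
theorem exists_fractionField (K₀ : Type u) [Field K₀] [Algebra A K₀] [IsFractionRing A K₀] (R : Type u) [CommRing R]
    [IsDomain R] [Algebra A R] (h : Function.Injective (algebraMap A R)) :
    ∃ (K : Type u) (_ : Field K) (_ : Algebra R K) (_ : IsFractionRing R K) (_ : Algebra A K) (_ : Algebra K₀ K),
      IsScalarTower A R K ∧ IsScalarTower A K₀ K := by
  have hinj : Function.Injective ((algebraMap R (FractionRing R)).comp (algebraMap A R)) :=
    (IsFractionRing.injective R (FractionRing R)).comp h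
  letI aA : Algebra A (FractionRing R) := ((algebraMap R (FractionRing R)).comp (algebraMap A R)).toAlgebra
  letI a0 : Algebra K₀ (FractionRing R) := (IsFractionRing.lift hinj : K₀ →+* FractionRing R).toAlgebra
  exact ⟨FractionRing R, inferInstance, inferInstance, inferInstance, aA, a0,
    IsScalarTower.of_algebraMap_eq (R := A) (S := R) (A := FractionRing R) fun _ => rfl,
    IsScalarTower.of_algebraMap_eq (R := A) (S := K₀) (A := FractionRing R) fun a =>
      (IsFractionRing.lift_algebraMap hinj a).symm⟩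

/-- The fraction field of a subring of a field, inside it. -/
theorem exists_fractionField_hom {O Ω : Type u} [CommRing O] [IsDomain O] [Field Ω] (j : O →+* Ω)
    (hj : Function.Injective j) {H : Type u} [CommRing H] [Algebra H O] :
    ∃ (F' : Type u) (_ : Field F') (_ : Algebra O F') (_ : IsFractionRing O F') (_ : Algebra H F')
      (i : F' →+* Ω), IsScalarTower H O F' ∧ ∀ x, i (algebraMap O F' x) = j x :=
  ⟨FractionRing O, inferInstance, inferInstance, inferInstance, inferInstance, IsFractionRing.lift hj, inferInstance,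
    IsFractionRing.lift_algebraMap hj⟩

/-- An abstract integral closure. -/
theorem exists_integralClosure (R M : Type u) [CommRing R] [Field M] [Algebra R M] :
    ∃ (D : Type u) (_ : CommRing D) (_ : IsDomain D) (_ : Algebra R D) (_ : Algebra D M),
      IsScalarTower R D M ∧ IsIntegralClosure D R M :=
  ⟨integralClosure R M, inferInstance, inferInstance, inferInstance, inferInstance, inferInstance, inferInstance⟩

theorem mem_range_radicial (hf : IsParams f) (htame : SGA1.IsTameAlong f (algebraMap A B))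
    (K₀ : Type u) [Field K₀] [Algebra A K₀] [IsFractionRing A K₀] (d : ℕ) (hd : DegBound (A := A) K₀ B d)
    (M : ℕ) (hM1 : 1 ≤ M) (hMA : (M : A) ≠ 0) (p k : ℕ) (hp : p.Prime) (hpm : (p : A) ∈ maximalIdeal A)
    (hp0 : (p : A) ≠ 0)
    (hM : ∀ i, (p : A) ∈ Ideal.span {f i} → ∀ e : ℕ, 0 < e → e ≤ d →
      (e : ResidueField (Localization.AtPrime (Ideal.span {f i}))) ≠ 0 → e ∣ M)
    [IsRegularLocalRing (KR f M)] [IsDomain (KR f M)]
    {H : Type u} [CommRing H] [IsRegularLocalRing H] [IsDomain H] [Algebra (KR f M) H]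
    [IsLocalHom (algebraMap (KR f M) H)] [Module.FaithfullyFlat (KR f M) H] [Algebra A H]
    [IsScalarTower A (KR f M) H]
    (Ω : Type u) [Field Ω] [Algebra H Ω] (hΩ : Function.Injective (algebraMap H Ω))
    [Algebra A Ω] (hAΩ : ∀ a, algebraMap A Ω a = algebraMap H Ω (algebraMap (KR f M) H (algebraMap A (KR f M) a)))
    {O : Type u} [CommRing O] [IsDomain O] [IsIntegrallyClosed O] [Algebra H O] [Algebra.IsIntegral H O]
    (hOinj : Function.Injective (algebraMap H O)) (j : O →ₐ[H] Ω) (hjinj : Function.Injective j)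
    (hpow : ∀ o : O, ∃ (c : H) (w : O), o ^ p ^ k = algebraMap H O c + (p : O) * w)
    (φ : B →ₐ[A] Ω) (hO : ∀ x : B, ∃ u v : O, v ≠ 0 ∧ φ x * j v = j u) (b : B) :
    ∃ a c : H, c ≠ 0 ∧ φ b * algebraMap H Ω c = algebraMap H Ω a := by
  -- the radicial case
  obtain ⟨F', _, _, _, _, i, hT3, hi⟩ := exists_fractionField_hom (H := H) j.toRingHom hjinj
  haveI := hT3
  letI : Algebra (KR f M) F' := ((algebraMap H F').comp (algebraMap (KR f M) H)).toAlgebra
  haveI : IsScalarTower (KR f M) H F' :=
    IsScalarTower.of_algebraMap_eq (R := KR f M) (S := H) (A := F') fun _ => rfl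
  letI : Algebra (KR f M) Ω := ((algebraMap H Ω).comp (algebraMap (KR f M) H)).toAlgebra
  haveI : IsScalarTower (KR f M) H Ω :=
    IsScalarTower.of_algebraMap_eq (R := KR f M) (S := H) (A := Ω) fun _ => rfl
  haveI : IsScalarTower A (KR f M) Ω :=
    IsScalarTower.of_algebraMap_eq (R := A) (S := KR f M) (A := Ω) hAΩ
  have hiH : ∀ x : H, i (algebraMap H F' x) = algebraMap H Ω x := fun x => by
    rw [IsScalarTower.algebraMap_apply H O F', hi]
    exact j.commutes x
  let iA : F' →ₐ[KR f M] Ω := { i with commutes' := fun x => hiH (algebraMap (KR f M) H x) }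
  haveI := RGLib.Kummer.finite f (fun _ => M) (fun _ => hM1)
  haveI : IsIntegrallyClosed A := RegLoc6.isIntegrallyClosed_of_isRegularLocalRing A
  haveI : IsIntegrallyClosed (KR f M) := RegLoc6.isIntegrallyClosed_of_isRegularLocalRing _
  have hHinj : Function.Injective (algebraMap (KR f M) H) := FaithfulSMul.algebraMap_injective (KR f M) H
  obtain ⟨KM, _, _, _, _, _, hT4, hT5⟩ := exists_fractionField K₀ (KR f M)
    (RGLib.Kummer.injective f (fun _ => M) fun _ => hM1)
  haveI := hT4
  haveI := hT5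
  obtain ⟨_, _⟩ := KR.finite_separable hM1 hMA hf.ne_zero K₀ KM
  have hMinj : Function.Injective (algebraMap (KR f M) Ω) := hΩ.comp hHinj
  letI : Algebra KM Ω := (IsFractionRing.lift hMinj : KM →+* Ω).toAlgebra
  haveI : IsScalarTower (KR f M) KM Ω :=
    IsScalarTower.of_algebraMap_eq (R := KR f M) (S := KM) (A := Ω)
      fun a => (IsFractionRing.lift_algebraMap hMinj a).symm
  haveI : IsScalarTower A KM Ω := IsScalarTower.of_algebraMap_eq (R := A) (S := KM) (A := Ω) fun a => by
    rw [IsScalarTower.algebraMap_apply A (KR f M) KM, ← IsScalarTower.algebraMap_apply,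
      ← IsScalarTower.algebraMap_apply]
  have hAKM : Function.Injective (algebraMap A KM) := by
    rw [IsScalarTower.algebraMap_eq A K₀ KM]
    exact (algebraMap K₀ KM).injective.comp (IsFractionRing.injective A K₀)
  have hintM : ∀ x ∈ Set.range φ, IsAlgebraic KM x := by
    rintro _ ⟨x, rfl⟩
    obtain ⟨P, hP, hPx⟩ := (Algebra.IsIntegral.isIntegral x : IsIntegral (Localization.Away (∏ i, f i)) x)
    have hu : IsUnit (algebraMap A KM (∏ i, f i)) :=
      isUnit_iff_ne_zero.2 ((map_ne_zero_iff _ hAKM).2 hf.prod_ne_zero)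
    let ι : Localization.Away (∏ i, f i) →+* KM := IsLocalization.Away.lift (∏ i, f i) hu
    have hι : φ.toRingHom.comp (algebraMap (Localization.Away (∏ i, f i)) B) = (algebraMap KM Ω).comp ι :=
      IsLocalization.ringHom_ext (Submonoid.powers (∏ i, f i)) (RingHom.ext fun a => by
        show φ (algebraMap _ B (algebraMap A _ a)) = algebraMap KM Ω (ι (algebraMap A _ a))
        rw [← IsScalarTower.algebraMap_apply, φ.commutes, IsLocalization.Away.lift_eq,
          ← IsScalarTower.algebraMap_apply])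
    have h2 : IsIntegral KM (φ x) := ⟨P.map ι, hP.map _, by
      rw [Polynomial.eval₂_map, ← hι]
      exact (Polynomial.hom_eval₂ P _ φ.toRingHom x).symm.trans ((congrArg φ.toRingHom hPx).trans (map_zero _))⟩
    exact h2.isAlgebraic
  let MM := IntermediateField.adjoin KM (Set.range φ)
  have hMM : MM.toSubalgebra = Algebra.adjoin KM (Set.range φ) :=
    IntermediateField.adjoin_toSubalgebra_of_isAlgebraic (fun x hx => hintM x hx)
  let ψM : B →ₐ[A] MM :=
    φ.codRestrict (MM.toSubalgebra.restrictScalars A) fun x => IntermediateField.subset_adjoin _ _ ⟨x, rfl⟩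
  have hgenM : Algebra.adjoin KM (Set.range ψM) = ⊤ := by
    refine Subalgebra.map_injective (f := MM.val) MM.val.injective ?_
    rw [AlgHom.map_adjoin, ← Set.range_comp, Algebra.map_top, IntermediateField.range_val, hMM]
    rfl
  letI : Algebra K₀ MM := ((algebraMap KM MM).comp (algebraMap K₀ KM)).toAlgebra
  haveI : IsScalarTower K₀ KM MM :=
    IsScalarTower.of_algebraMap_eq (R := K₀) (S := KM) (A := MM) fun _ => rfl
  haveI : IsScalarTower A K₀ MM := IsScalarTower.of_algebraMap_eq (R := A) (S := K₀) (A := MM) fun a => by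
    rw [IsScalarTower.algebraMap_apply A KM MM, IsScalarTower.algebraMap_apply A K₀ KM]
    rfl
  haveI : IsScalarTower A (KR f M) MM :=
    IsScalarTower.of_algebraMap_eq (R := A) (S := KR f M) (A := MM) fun a =>
      Subtype.ext (IsScalarTower.algebraMap_apply A (KR f M) Ω a)
  obtain ⟨_, _⟩ := finite_separable (AF := Localization.Away (∏ i, f i)) (A := A) (K₁ := KM) (M := MM)
    ((map_ne_zero_iff _ hAKM).2 hf.prod_ne_zero) ψM hgenM
  haveI : FiniteDimensional K₀ MM := FiniteDimensional.trans K₀ KM MM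
  haveI : Algebra.IsSeparable K₀ MM := Algebra.IsSeparable.trans K₀ KM MM
  obtain ⟨D₀, _, _, _, _, hT6, hT7⟩ := exists_integralClosure (KR f M) MM
  haveI := hT6
  haveI := hT7
  haveI : Module.Finite (KR f M) D₀ := IsIntegralClosure.finite (KR f M) KM MM D₀
  haveI : IsFractionRing D₀ MM := IsIntegralClosure.isFractionRing_of_finite_extension (KR f M) KM MM D₀
  haveI : IsNoetherianRing D₀ := IsNoetherianRing.of_finite (KR f M) D₀
  letI : Algebra A D₀ := ((algebraMap (KR f M) D₀).comp (algebraMap A (KR f M))).toAlgebra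
  haveI : IsScalarTower A (KR f M) D₀ :=
    IsScalarTower.of_algebraMap_eq (R := A) (S := KR f M) (A := D₀) fun _ => rfl
  haveI : IsScalarTower A D₀ MM := IsScalarTower.of_algebraMap_eq (R := A) (S := D₀) (A := MM) fun a => by
    rw [IsScalarTower.algebraMap_apply A (KR f M) D₀, ← IsScalarTower.algebraMap_apply (KR f M) D₀ MM,
      ← IsScalarTower.algebraMap_apply]
  haveI : IsIntegralClosure D₀ A MM :=
    ⟨IsIntegralClosure.algebraMap_injective D₀ (KR f M) MM, fun {x} =>
      ⟨fun hx => IsIntegralClosure.isIntegral_iff.1 (hx.tower_top : IsIntegral (KR f M) x),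
      fun hx => isIntegral_trans (R := A) (A := KR f M) x (IsIntegralClosure.isIntegral_iff.2 hx)⟩⟩
  -- a height one prime of the residue characteristic
  have hAH : Function.Injective (algebraMap A H) := by
    rw [IsScalarTower.algebraMap_eq A (KR f M) H]
    exact hHinj.comp (RGLib.Kummer.injective f (fun _ => M) fun _ => hM1)
  have hpH0 : (p : H) ≠ 0 := by
    rw [← map_natCast (algebraMap A H)]
    exact (map_ne_zero_iff _ hAH).2 hp0
  haveI : IsLocalHom (algebraMap A (KR f M)) := Hensel.isLocalHom_of_isIntegral_local A (KR f M)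
  have hpHm : (p : H) ∈ maximalIdeal H := by
    rw [← map_natCast (algebraMap A H)]
    intro hu
    rw [IsScalarTower.algebraMap_apply A (KR f M) H] at hu
    exact (mem_maximalIdeal _).1 hpm (isUnit_of_map_unit (algebraMap A (KR f M)) _
      (isUnit_of_map_unit (algebraMap (KR f M) H) _ hu))
  obtain ⟨P, hP, -⟩ := Ideal.exists_minimalPrimes_le (J := maximalIdeal H)
    ((Ideal.span_singleton_le_iff_mem _).2 hpHm)
  haveI := hP.1.1
  have hpP : (p : H) ∈ P := hP.1.2 (Ideal.mem_span_singleton_self _)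
  have hP1 : P.height ≤ 1 := Ideal.height_le_one_of_isPrincipal_of_mem_minimalPrimes _ P hP
  let P₀ : Ideal (KR f M) := P.comap (algebraMap (KR f M) H)
  have hP₀ : P₀.height ≤ 1 := (Pi1Ext.BranchPurity.height_under_le_of_flat (R := KR f M) P).trans hP1
  have hpP₀ : (p : KR f M) ∈ P₀ := by
    show algebraMap (KR f M) H (p : KR f M) ∈ P
    rw [map_natCast]
    exact hpP
  have hunr : ∀ (Q : Ideal D₀) [Q.IsPrime], Q.comap (algebraMap (KR f M) D₀) = P₀ →
      Algebra.IsUnramifiedAt (KR f M) Q := by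
    intro Q hQ hQP
    have hpD : (p : D₀) ≠ 0 := by
      intro h
      have h2 := congrArg (fun x : D₀ => ((algebraMap D₀ MM x : MM) : Ω)) h
      simp only [map_natCast, map_zero, SubringClass.coe_natCast, ZeroMemClass.coe_zero] at h2
      rw [← map_natCast (algebraMap H Ω)] at h2
      exact hpH0 ((map_eq_zero_iff _ hΩ).1 h2)
    have hpQ : (p : D₀) ∈ Q := by
      rw [← map_natCast (algebraMap (KR f M) D₀), ← Ideal.mem_comap, hQP]
      exact hpP₀
    have hQ1 : Q.height = 1 := by
      refine le_antisymm ?_ ?_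
      · refine (Pi1Ext.BranchPurity.height_le_under_of_qf (R := KR f M) ⟨Q, hQ⟩).trans ?_
        exact le_trans (le_of_eq (congrArg Ideal.height hQP)) hP₀
      · rw [Order.one_le_iff_ne_zero, Ne, Ideal.height_eq_zero_iff_eq_bot]
        exact fun hb => hpD (Ideal.mem_bot.1 (hb ▸ hpQ))
    have hQA : (Q.comap (algebraMap A D₀)).height = 1 := height_comap_eq_one' A K₀ MM D₀ Q hQ1
    refine isUnramifiedAt_of_height_one (K₀ := K₀) (K₁ := KM) (M := MM) (AF := Localization.Away (∏ i, f i)) f
      hf.ne_zero (fun P hP hF => by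
        obtain ⟨i, -, hi⟩ := hP.prod_mem_iff.1 hF
        exact ⟨i, hi⟩) hf.prod_ne_zero htame ψM hgenM M hM1 (RGLib.Kummer.T f (fun _ => M))
      (fun i => RGLib.Kummer.T_pow f (fun _ => M) i) D₀ Q hQ1 d hd (fun i hi => hM i ?_)
    have hle : Ideal.span {f i} ≤ Q.comap (algebraMap A D₀) := (Ideal.span_singleton_le_iff_mem _).2 hi
    have heq : Ideal.span {f i} = Q.comap (algebraMap A D₀) := eq_of_le_of_not_lt hle fun hlt => by
      have h2 := Ideal.height_strict_mono_of_isPrime hlt
      rw [hQA] at h2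
      exact Ideal.span_singleton_eq_bot.not.2 (hf.ne_zero i)
        (Ideal.height_eq_zero_iff_eq_bot.1 (Order.lt_one_iff.1 h2))
    rw [heq, Ideal.mem_comap, map_natCast]
    exact hpQ
  -- one denominator for unramifiedness over the prime
  obtain ⟨sR, hsR, hsR'⟩ : ∃ sR : KR f M, sR ∉ P₀ ∧
      Algebra.FormallyUnramified (KR f M) (Localization.Away (algebraMap (KR f M) D₀ sR)) := by
    let I := Module.annihilator D₀ (Ω[D₀⁄KR f M])
    have hI : ¬ I.comap (algebraMap (KR f M) D₀) ≤ P₀ := fun hle => by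
      obtain ⟨Q, hIQ, hQ, hQP⟩ := Ideal.exists_ideal_over_prime_of_isIntegral P₀ I hle
      have h1 : (⟨Q, hQ⟩ : PrimeSpectrum D₀) ∈ Algebra.unramifiedLocus (KR f M) D₀ := @hunr Q hQ hQP
      rw [Algebra.unramifiedLocus_eq_compl_support, Set.mem_compl_iff, Module.mem_support_iff_of_finite] at h1
      exact h1 hIQ
    obtain ⟨sR, hsI, hsP⟩ := SetLike.not_le_iff_exists.1 hI
    refine ⟨sR, hsP, Algebra.basicOpen_subset_unramifiedLocus_iff.1 fun Q hQ => ?_⟩
    rw [Algebra.unramifiedLocus_eq_compl_support, Set.mem_compl_iff, Module.mem_support_iff_of_finite]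
    exact fun hle => hQ (hle hsI)
  haveI := hsR'
  -- the point lands in the fraction field of `O`
  have hrange : ∀ x : MM, (x : Ω) ∈ iA.range := by
    intro x
    have hx : (x : Ω) ∈ Algebra.adjoin KM (Set.range φ) := by
      rw [← hMM]
      exact x.2
    generalize (x : Ω) = y at hx ⊢
    have hdiv : ∀ {a c : Ω}, a ∈ iA.range → c ∈ iA.range → a / c ∈ iA.range := by
      rintro _ _ ⟨a, rfl⟩ ⟨c, rfl⟩
      exact ⟨a / c, map_div₀ iA a c⟩
    induction hx using Algebra.adjoin_induction with
    | mem y hy =>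
      obtain ⟨b', rfl⟩ := hy
      obtain ⟨u, v, hv, huv⟩ := hO b'
      have hv0 : j v ≠ 0 := fun h => hv (hjinj (h.trans (map_zero j).symm))
      rw [eq_div_of_mul_eq hv0 huv]
      exact hdiv ⟨algebraMap O F' u, hi u⟩ ⟨algebraMap O F' v, hi v⟩
    | algebraMap y =>
      obtain ⟨a, c, -, rfl⟩ := IsFractionRing.div_surjective (A := KR f M) y
      rw [map_div₀, ← IsScalarTower.algebraMap_apply, ← IsScalarTower.algebraMap_apply]
      exact hdiv ⟨algebraMap (KR f M) F' a, iA.commutes a⟩ ⟨algebraMap (KR f M) F' c, iA.commutes c⟩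
    | add y z _ _ hy hz => exact add_mem hy hz
    | mul y z _ _ hy hz => exact mul_mem hy hz
  let θ₀ : D₀ →ₐ[KR f M] F' :=
    ((AlgEquiv.ofInjective iA iA.toRingHom.injective).symm.toAlgHom).comp
      (((MM.val.restrictScalars (KR f M)).comp (IsScalarTower.toAlgHom (KR f M) D₀ MM)).codRestrict iA.range fun x =>
        hrange _)
  have hθ₀ : ∀ x : D₀, i (θ₀ x) = ((algebraMap D₀ MM x : MM) : Ω) := fun x => by
    show ((AlgEquiv.ofInjective iA iA.toRingHom.injective) (θ₀ x) : Ω) = _
    simp [θ₀]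
  obtain ⟨x₁, x₂, hx₂, hx⟩ := IsFractionRing.div_surjective (A := D₀) (ψM b)
  obtain ⟨a₁, c₁, hc₁, h1⟩ := exists_fraction_of_radicial (O := O) hOinj P hp hpP k hpow sR hsR θ₀ x₁
  obtain ⟨a₂, c₂, hc₂, h2⟩ := exists_fraction_of_radicial (O := O) hOinj P hp hpP k hpow sR hsR θ₀ x₂
  have h1' := congrArg i h1
  have h2' := congrArg i h2
  rw [map_mul, hθ₀, hiH, hiH] at h1' h2'
  have hx2' : (((algebraMap D₀ MM x₂ : MM) : Ω)) ≠ 0 := fun h =>
    IsFractionRing.to_map_ne_zero_of_mem_nonZeroDivisors hx₂ (MM.val.injective (h.trans (map_zero _).symm))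
  have hx' : φ b * ((algebraMap D₀ MM x₂ : MM) : Ω) = ((algebraMap D₀ MM x₁ : MM) : Ω) := by
    show ((ψM b : MM) : Ω) * _ = _
    rw [← MulMemClass.coe_mul, ← hx]
    exact congrArg Subtype.val (div_mul_cancel₀ _ fun h => hx2' (congrArg Subtype.val h))
  have ha2 : a₂ ≠ 0 := fun h => by
    rw [h, map_zero, mul_eq_zero] at h2'
    rcases h2' with h2' | h2'
    · exact hx2' h2'
    · exact hc₂ ((map_eq_zero_iff _ hΩ).1 h2' ▸ P.zero_mem)
  refine ⟨a₁ * c₂, a₂ * c₁, mul_ne_zero ha2 fun h => hc₁ (h ▸ P.zero_mem), ?_⟩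
  simp only [map_mul]
  linear_combination (algebraMap H Ω c₂) * h1' + (algebraMap H Ω c₁ * algebraMap H Ω c₂) * hx' -
    (φ b * algebraMap H Ω c₁) * h2'


theorem mem_range_point (hf : IsParams f) (htame : SGA1.IsTameAlong f (algebraMap A B))
    (K₀ : Type u) [Field K₀] [Algebra A K₀] [IsFractionRing A K₀] (d : ℕ) (hd : DegBound (A := A) K₀ B d)
    (M : ℕ) (hM1 : 1 ≤ M) (p k : ℕ) (hNA : ((p ^ k * M : ℕ) : A) ≠ 0) (hN1 : 1 ≤ p ^ k * M)
    (hk : k ≠ 0 → p.Prime ∧ (p : A) ∈ maximalIdeal A ∧ (p : A) ≠ 0)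
    (hN : ∀ i (e : ℕ), 0 < e → e ≤ d → (e : ResidueField (Localization.AtPrime (Ideal.span {f i}))) ≠ 0 →
      e ∣ p ^ k * M)
    (hM : ∀ i, (p : A) ∈ Ideal.span {f i} → ∀ e : ℕ, 0 < e → e ≤ d →
      (e : ResidueField (Localization.AtPrime (Ideal.span {f i}))) ≠ 0 → e ∣ M)
    [IsRegularLocalRing (KR f M)] [IsDomain (KR f M)]
    {H : Type u} [CommRing H] [IsRegularLocalRing H] [IsDomain H] [Algebra (KR f M) H]
    [IsLocalHom (algebraMap (KR f M) H)] [Module.FaithfullyFlat (KR f M) H] (hH : HenselianLocalRing H)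
    [IsSepClosed (ResidueField H)]
    (hTm : ∀ i, algebraMap (KR f M) H (RGLib.Kummer.T f (fun _ => M) i) ∈ maximalIdeal H)
    (hTli : LinearIndependent (ResidueField H) fun i => (maximalIdeal H).toCotangent ⟨_, hTm i⟩)
    (Ω : Type u) [Field Ω] [IsAlgClosed Ω] [Algebra H Ω] (hΩ : Function.Injective (algebraMap H Ω))
    [Algebra A Ω] (hAΩ : ∀ a, algebraMap A Ω a = algebraMap H Ω (algebraMap (KR f M) H (algebraMap A (KR f M) a)))
    (φ : B →ₐ[A] Ω) (b : B) : ∃ a c : H, c ≠ 0 ∧ φ b * algebraMap H Ω c = algebraMap H Ω a := by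
  letI : Algebra A H := ((algebraMap (KR f M) H).comp (algebraMap A (KR f M))).toAlgebra
  haveI : IsScalarTower A (KR f M) H :=
    IsScalarTower.of_algebraMap_eq (R := A) (S := KR f M) (A := H) fun _ => rfl
  haveI : IsScalarTower A H Ω := IsScalarTower.of_algebraMap_eq (R := A) (S := H) (A := Ω) hAΩ
  have hq1 : 1 ≤ p ^ k := Nat.one_le_iff_ne_zero.2 fun h => by rw [h, zero_mul] at hN1; omega
  let t : Fin r → H := fun i => algebraMap (KR f M) H (RGLib.Kummer.T f (fun _ => M) i)
  obtain ⟨O, _, _, _, _, _, j, sO, hOsc, hOint, hOinj, hjinj, hsq, hq1surj, hpow⟩ :=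
    exists_rootRing hH t hTm hTli (p ^ k) hq1 Ω hΩ
  haveI := hOsc
  haveI := hOint
  letI : Algebra O Ω := j.toRingHom.toAlgebra
  letI : Algebra A O := ((algebraMap H O).comp (algebraMap A H)).toAlgebra
  haveI : IsScalarTower A H O := IsScalarTower.of_algebraMap_eq (R := A) (S := H) (A := O) fun _ => rfl
  haveI : IsScalarTower H O Ω :=
    IsScalarTower.of_algebraMap_eq (R := H) (S := O) (A := Ω) fun a => (j.commutes a).symm
  haveI : IsScalarTower A O Ω := IsScalarTower.of_algebraMap_eq (R := A) (S := O) (A := Ω) fun a => by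
    rw [IsScalarTower.algebraMap_apply A H O, ← IsScalarTower.algebraMap_apply H O Ω, ← IsScalarTower.algebraMap_apply]
  -- the deep Kummer ring maps to `O`
  haveI := KR.isRegularLocalRing hf hN1
  haveI := KR.isDomain hf hN1
  obtain ⟨g, hg⟩ := (RGLib.Kummer.existsUnique_hom f (fun _ => p ^ k * M)
    sO fun i => by
      rw [pow_mul, hsq i, ← map_pow]
      show algebraMap H O ((algebraMap (KR f M) H _) ^ M) = _
      rw [← map_pow, RGLib.Kummer.T_pow f (fun _ => M) i, ← IsScalarTower.algebraMap_apply A (KR f M) H,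
        ← IsScalarTower.algebraMap_apply A H O]).exists
  letI : Algebra (KR f (p ^ k * M)) O := g.toRingHom.toAlgebra
  haveI : IsScalarTower A (KR f (p ^ k * M)) O := IsScalarTower.of_algebraMap_eq (R := A) (S := (KR f (p ^ k * M))) (A := O) fun a => (g.commutes a).symm
  have hAinj : Function.Injective (algebraMap A O) :=
    hOinj.comp ((FaithfulSMul.algebraMap_injective (KR f M) H).comp
      (RGLib.Kummer.injective f (fun _ => M) fun _ => hM1))
  haveI := RGLib.Kummer.finite f (fun _ => p ^ k * M) (fun _ => hN1)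
  have hginj : Function.Injective g := by
    refine (RingHom.injective_iff_ker_eq_bot g.toRingHom).2 ?_
    refine Ideal.eq_bot_of_comap_eq_bot (R := A) ?_
    rw [eq_bot_iff]
    intro a ha
    have h1 : g (algebraMap A _ a) = 0 := ha
    rw [g.commutes, ← map_zero (algebraMap A O)] at h1
    exact hAinj h1
  letI : Algebra (KR f (p ^ k * M)) Ω := ((algebraMap O Ω).comp g.toRingHom).toAlgebra
  haveI : IsScalarTower (KR f (p ^ k * M)) O Ω := IsScalarTower.of_algebraMap_eq (R := (KR f (p ^ k * M))) (S := O) (A := Ω) fun _ => rfl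
  haveI : IsScalarTower A (KR f (p ^ k * M)) Ω := IsScalarTower.of_algebraMap_eq (R := A) (S := (KR f (p ^ k * M))) (A := Ω) fun a => by
    rw [IsScalarTower.algebraMap_apply (KR f (p ^ k * M)) O Ω, ← IsScalarTower.algebraMap_apply A _ O,
      ← IsScalarTower.algebraMap_apply]
  obtain ⟨KN, _, _, _, _, _, hT1, hT2⟩ := exists_fractionField K₀ (KR f (p ^ k * M))
    (RGLib.Kummer.injective f (fun _ => p ^ k * M) fun _ => hN1)
  haveI := hT1
  haveI := hT2
  have hNinj : Function.Injective (algebraMap (KR f (p ^ k * M)) Ω) := hjinj.comp hginj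
  letI : Algebra KN Ω := (IsFractionRing.lift hNinj : KN →+* Ω).toAlgebra
  haveI : IsScalarTower (KR f (p ^ k * M)) KN Ω :=
    IsScalarTower.of_algebraMap_eq (R := KR f (p ^ k * M)) (S := KN) (A := Ω)
      fun a => (IsFractionRing.lift_algebraMap hNinj a).symm
  haveI : IsScalarTower A KN Ω := IsScalarTower.of_algebraMap_eq (R := A) (S := KN) (A := Ω) fun a => by
    rw [IsScalarTower.algebraMap_apply A (KR f (p ^ k * M)) KN, ← IsScalarTower.algebraMap_apply,
      ← IsScalarTower.algebraMap_apply]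
  have hAKN : Function.Injective (algebraMap A KN) := by
    rw [IsScalarTower.algebraMap_eq A K₀ KN]
    exact (algebraMap K₀ KN).injective.comp (IsFractionRing.injective A K₀)
  -- the compositum field
  have hint : ∀ x ∈ Set.range φ, IsAlgebraic KN x := by
    rintro _ ⟨x, rfl⟩
    have h1 : IsIntegral (Localization.Away (∏ i, f i)) x := Algebra.IsIntegral.isIntegral x
    obtain ⟨P, hP, hPx⟩ := h1
    have hu : IsUnit (algebraMap A KN (∏ i, f i)) :=
      isUnit_iff_ne_zero.2 ((map_ne_zero_iff _ hAKN).2 hf.prod_ne_zero)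
    let ι : Localization.Away (∏ i, f i) →+* KN := IsLocalization.Away.lift (∏ i, f i) hu
    have hι : φ.toRingHom.comp (algebraMap (Localization.Away (∏ i, f i)) B) = (algebraMap KN Ω).comp ι :=
      IsLocalization.ringHom_ext (Submonoid.powers (∏ i, f i)) (RingHom.ext fun a => by
        show φ (algebraMap _ B (algebraMap A _ a)) = algebraMap KN Ω (ι (algebraMap A _ a))
        rw [← IsScalarTower.algebraMap_apply, φ.commutes, IsLocalization.Away.lift_eq,
          ← IsScalarTower.algebraMap_apply])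
    have h2 : IsIntegral KN (φ x) := ⟨P.map ι, hP.map _, by
      rw [Polynomial.eval₂_map, ← hι]
      exact (Polynomial.hom_eval₂ P _ φ.toRingHom x).symm.trans ((congrArg φ.toRingHom hPx).trans (map_zero _))⟩
    exact h2.isAlgebraic
  let MN := IntermediateField.adjoin KN (Set.range φ)
  have hMN : MN.toSubalgebra = Algebra.adjoin KN (Set.range φ) :=
    IntermediateField.adjoin_toSubalgebra_of_isAlgebraic (fun x hx => hint x hx)
  let ψ : B →ₐ[A] MN :=
    φ.codRestrict (MN.toSubalgebra.restrictScalars A) fun x => IntermediateField.subset_adjoin _ _ ⟨x, rfl⟩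
  have hgen : Algebra.adjoin KN (Set.range ψ) = ⊤ := by
    refine Subalgebra.map_injective (f := MN.val) MN.val.injective ?_
    rw [AlgHom.map_adjoin, ← Set.range_comp, Algebra.map_top, IntermediateField.range_val, hMN]
    rfl
  letI : Algebra K₀ MN := ((algebraMap KN MN).comp (algebraMap K₀ KN)).toAlgebra
  haveI : IsScalarTower K₀ KN MN :=
    IsScalarTower.of_algebraMap_eq (R := K₀) (S := KN) (A := MN) fun _ => rfl
  haveI : IsScalarTower A K₀ MN := IsScalarTower.of_algebraMap_eq (R := A) (S := K₀) (A := MN) fun a => by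
    rw [IsScalarTower.algebraMap_apply A KN MN, IsScalarTower.algebraMap_apply A K₀ KN]
    rfl
  haveI : IsScalarTower A (KR f (p ^ k * M)) MN :=
    IsScalarTower.of_algebraMap_eq (R := A) (S := KR f (p ^ k * M)) (A := MN) fun a =>
      Subtype.ext (IsScalarTower.algebraMap_apply A (KR f (p ^ k * M)) Ω a)
  obtain ⟨_, _⟩ := etale_integralClosure K₀ hf htame (p ^ k * M) hN1 hNA KN MN ψ hgen d hd hN
  let D := integralClosure (KR f (p ^ k * M)) MN
  have hO : ∀ x : B, ∃ u v : O, v ≠ 0 ∧ φ x * algebraMap O Ω v = algebraMap O Ω u := by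
    intro x
    obtain ⟨_, _⟩ := finite_separable (AF := Localization.Away (∏ i, f i)) (A := A) (K₁ := KN) (M := MN)
      ((map_ne_zero_iff _ hAKN).2 hf.prod_ne_zero) ψ hgen
    haveI : IsFractionRing D MN :=
      IsIntegralClosure.isFractionRing_of_finite_extension (KR f (p ^ k * M)) KN MN D
    let θ : D →ₐ[KR f (p ^ k * M)] Ω := (MN.val.restrictScalars _).comp D.val
    obtain ⟨a, c, hc, hac⟩ := IsFractionRing.div_surjective (A := D) (ψ x)
    obtain ⟨u, hu⟩ := mem_range_of_strictlyHenselian (H := O) θ a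
    obtain ⟨v, hv⟩ := mem_range_of_strictlyHenselian (H := O) θ c
    have hc0 : θ c ≠ 0 := fun h => nonZeroDivisors.ne_zero hc (Subtype.ext (MN.val.injective (h.trans (map_zero _).symm)))
    refine ⟨u, v, fun h0 => hc0 (by rw [← hv, h0, map_zero]), ?_⟩
    rw [hu, hv]
    show ((ψ x : MN) : Ω) * ((c : MN) : Ω) = ((a : MN) : Ω)
    rw [← MulMemClass.coe_mul, ← hac]
    exact congrArg Subtype.val (div_mul_cancel₀ _ (fun h => hc0 (congrArg Subtype.val h)))
  rcases Nat.eq_zero_or_pos k with hk0 | hkpos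
  · -- nothing radicial
    subst hk0
    obtain ⟨u, v, hv, huv⟩ := hO b
    have hsurj := hq1surj (pow_zero p)
    obtain ⟨a, rfl⟩ := hsurj u
    obtain ⟨c, rfl⟩ := hsurj v
    exact ⟨a, c, fun h => hv (by rw [h, map_zero]),
      by rwa [← IsScalarTower.algebraMap_apply, ← IsScalarTower.algebraMap_apply] at huv⟩
  -- the radicial case
  obtain ⟨hp, hpm, hp0⟩ := hk (by omega)
  exact mem_range_radicial hf htame K₀ d hd M hM1 (fun h => hNA (by rw [Nat.cast_mul, h, mul_zero])) p k hp hpm hp0
    hM Ω hΩ hAΩ hOinj j hjinj (hpow p k hp rfl) φ hO b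

end Groth.Agent.AbhAbs
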