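import Mathlib
import Groth.Agent.AbhAbs.Points
import Groth.Agent.SHSplit.Core

/-!
# Abhyankar's lemma, absolute form, for algebras
-/

set_option autoImplicit false
set_option linter.style.haveILetI false
set_option backward.isDefEq.respectTransparency false
set_option backward.isDefEq.respectTransparency.types false
set_option maxHeartbeats 1000000

universe u

open IsLocalRing TensorProduct

namespace Groth.Agent.AbhAbs

/-- A finite étale algebra over a field whose geometric points are rational is split. -/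
theorem exists_algEquiv_pi_of_points {K X : Type u} [Field K] [CommRing X] [Algebra K X] [Algebra.Etale K X]
    (Ω : Type u) [Field Ω] [IsAlgClosed Ω] [Algebra K Ω]
    (h : ∀ (τ : X →ₐ[K] Ω) (x : X), τ x ∈ (algebraMap K Ω).range) :
    ∃ (ι : Type u) (_ : Finite ι), Nonempty (X ≃ₐ[K] (ι → K)) := by
  obtain ⟨I, hI, L, _, _, ε, hsep⟩ :=
    (Algebra.FormallyEtale.iff_exists_algEquiv_prod (K := K) (A := X)).1 inferInstance
  haveI : Module.Finite K X := Algebra.FormallyUnramified.finite_of_free K X
  have hbij : ∀ i, Function.Bijective (Algebra.ofId K (L i)) := by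
    intro i
    haveI := hsep i
    haveI : Module.Finite K (L i) := Module.Finite.of_surjective
      ((Pi.evalAlgHom K L i).comp ε.toAlgHom).toLinearMap ((Function.surjective_eval i).comp ε.surjective)
    let σ : L i →ₐ[K] Ω := IsAlgClosed.lift
    refine ⟨(algebraMap K (L i)).injective, fun y => ?_⟩
    obtain ⟨x, hx⟩ := ((Function.surjective_eval i).comp ε.surjective) y
    obtain ⟨c, hc⟩ := h ((σ.comp (Pi.evalAlgHom K L i)).comp ε.toAlgHom) x
    refine ⟨c, σ.toRingHom.injective ?_⟩
    show σ (algebraMap K (L i) c) = σ y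
    rw [σ.commutes, hc, ← hx]
    rfl
  exact ⟨I, hI, ⟨ε.trans (AlgEquiv.piCongrRight fun i => (AlgEquiv.ofBijective _ (hbij i)).symm)⟩⟩

/-- The integral closure in the generic fibre of a finite étale algebra over a localization. -/
theorem exists_algEquiv_integralClosure (R : Type u) [CommRing R] [IsDomain R] [IsNoetherianRing R]
    [IsIntegrallyClosed R] (g : R) (RF : Type u) [CommRing RF] [IsDomain RF] [Algebra R RF]
    [IsLocalization.Away g RF] (Kr : Type u) [Field Kr] [Algebra R Kr] [IsFractionRing R Kr] [Algebra RF Kr]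
    [IsScalarTower R RF Kr] [IsFractionRing RF Kr] (G : Type u) [CommRing G] [Algebra RF G] [Algebra.Etale RF G]
    [Module.Finite RF G] [Algebra R G] [IsScalarTower R RF G] (E : Type u) [CommRing E] [Algebra Kr E] [Algebra R E]
    [IsScalarTower R Kr E] [Algebra G E] [Algebra RF E] [IsScalarTower RF Kr E] [IsScalarTower RF G E]
    [Algebra.IsPushout RF Kr G E] :
    Nonempty (RF ⊗[R] integralClosure R E ≃ₐ[RF] G) := by
  haveI : IsScalarTower R G E := IsScalarTower.of_algebraMap_eq (R := R) (S := G) (A := E) fun r => by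
    rw [IsScalarTower.algebraMap_apply R RF G, ← IsScalarTower.algebraMap_apply RF G E,
      IsScalarTower.algebraMap_apply RF Kr E, ← IsScalarTower.algebraMap_apply R RF Kr,
      ← IsScalarTower.algebraMap_apply]
  haveI : IsScalarTower R RF E := IsScalarTower.of_algebraMap_eq (R := R) (S := RF) (A := E) fun r => by
    rw [IsScalarTower.algebraMap_apply RF Kr E, ← IsScalarTower.algebraMap_apply R RF Kr, ← IsScalarTower.algebraMap_apply]
  haveI : IsIntegrallyClosed RF :=
    isIntegrallyClosed_of_isLocalization RF (Submonoid.powers g) (by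
      rintro _ ⟨m, rfl⟩
      refine pow_mem (mem_nonZeroDivisors_of_ne_zero fun h0 => ?_) m
      exact (IsLocalization.Away.algebraMap_isUnit (S := RF) g).ne_zero (by rw [h0, map_zero]))
  haveI : Module.Flat RF G := Algebra.Smooth.flat RF G
  let eE : G ⊗[RF] Kr ≃ₐ[RF] E :=
    (Algebra.TensorProduct.comm RF G Kr).trans ((Algebra.IsPushout.equiv RF Kr G E).restrictScalars RF)
  have heE : ∀ (x : G) (c : Kr), eE (x ⊗ₜ c) = algebraMap G E x * algebraMap Kr E c := fun x c => by
    simp [eE, Algebra.IsPushout.equiv_tmul, mul_comm]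
  -- the image of `G` is the integral closure of `RF`
  have hinj : Function.Injective (algebraMap G E) := by
    intro a b hab
    have h1 : eE (a ⊗ₜ 1) = eE (b ⊗ₜ 1) := by rw [heE, heE, hab]
    have h2 : Function.Injective (fun x : G => x ⊗ₜ[RF] (1 : Kr)) := by
      have := Module.Flat.lTensor_preserves_injective_linearMap (M := G) (Algebra.linearMap RF Kr)
        (IsFractionRing.injective RF Kr)
      have h3 := this.comp (TensorProduct.rid RF G).symm.injective
      refine fun x y hxy => h3 ?_
      simpa [TensorProduct.rid_symm_apply] using hxy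
    exact h2 (eE.injective h1)
  have himg : ∀ z : E, IsIntegral RF z → z ∈ (algebraMap G E).range := by
    intro z hz
    have hz' : IsIntegral G (eE.symm z) := (hz.map eE.symm).tower_top
    obtain ⟨w, hw⟩ := (EtPBC0.toIntegralClosure_bijective_of_weaklyEtale RF G Kr).2 ⟨eE.symm z, hz'⟩
    have hval : ∀ v, ∃ x : G, eE ((TensorProduct.toIntegralClosure RF G Kr v : integralClosure G (G ⊗[RF] Kr)) :
        G ⊗[RF] Kr) = algebraMap G E x := fun v => by
      induction v with
      | zero => exact ⟨0, by simp⟩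
      | tmul a c =>
        obtain ⟨c', hc'⟩ := IsIntegrallyClosed.isIntegral_iff.1 (show IsIntegral RF (c : Kr) from c.2)
        refine ⟨a * algebraMap RF G c', ?_⟩
        rw [map_mul, ← IsScalarTower.algebraMap_apply RF G E, IsScalarTower.algebraMap_apply RF Kr E]
        rw [hc']
        exact heE a (c : Kr)
      | add x y hx hy =>
        obtain ⟨a, ha⟩ := hx
        obtain ⟨b, hb⟩ := hy
        exact ⟨a + b, by rw [map_add, Subalgebra.coe_add, map_add, ha, hb, map_add]⟩
    obtain ⟨x, hx⟩ := hval w
    rw [hw, AlgEquiv.apply_symm_apply] at hx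
    exact ⟨x, hx.symm⟩
  -- the map to `G`
  let C := integralClosure R E
  let gA : G →ₐ[R] E := IsScalarTower.toAlgHom R G E
  let ρ : C →ₐ[R] G := (AlgEquiv.ofInjective gA hinj).symm.toAlgHom.comp
    (C.val.codRestrict gA.range fun c => himg _ (c.2.tower_top : IsIntegral RF (c : E)))
  have hρ : ∀ c : C, algebraMap G E (ρ c) = (c : E) := fun c => by
    show ((AlgEquiv.ofInjective gA hinj (ρ c) : gA.range) : E) = _
    simp [ρ]
  letI : Algebra C G := ρ.toRingHom.toAlgebra
  haveI : IsScalarTower R C G := IsScalarTower.of_algebraMap_eq (R := R) (S := C) (A := G) fun r => (ρ.commutes r).symm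
  haveI : IsLocalization.Away (algebraMap R C g) G := by
    refine (isLocalization_iff _ _).2 ⟨?_, fun x => ?_, fun {a b} h => ⟨1, ?_⟩⟩
    · rintro ⟨_, m, rfl⟩
      rw [map_pow, ← IsScalarTower.algebraMap_apply, IsScalarTower.algebraMap_apply R RF G]
      exact ((IsLocalization.Away.algebraMap_isUnit g).map _).pow m
    · obtain ⟨⟨_, m, rfl⟩, hm⟩ := IsIntegral.exists_multiple_integral_of_isLocalization (Submonoid.powers g)
        (Rₘ := RF) x (Algebra.IsIntegral.isIntegral x)
      have hm' : IsIntegral R ((g ^ m) • x) := hm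
      refine ⟨(⟨gA ((g ^ m) • x), hm'.map gA⟩, ⟨algebraMap R C g ^ m, m, rfl⟩), hinj ?_⟩
      rw [map_mul]
      show _ * algebraMap G E (ρ (algebraMap R C g ^ m)) = algebraMap G E (ρ ⟨gA ((g ^ m) • x), hm'.map gA⟩)
      rw [hρ, hρ, SubmonoidClass.coe_pow]
      show algebraMap G E x * algebraMap R E g ^ m = gA ((g ^ m) • x)
      rw [map_smul, Algebra.smul_def, map_pow, mul_comm]
      rfl
    · refine congrArg _ (Subtype.ext ?_)
      rw [← hρ a, ← hρ b]
      exact congrArg (algebraMap G E) h
  haveI : IsLocalization (Algebra.algebraMapSubmonoid C (Submonoid.powers g)) G := by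
    rw [Algebra.algebraMapSubmonoid_powers]
    infer_instance
  haveI : Algebra.IsPushout R RF C G := (Algebra.isPushout_of_isLocalization (Submonoid.powers g) RF C G).symm
  exact ⟨Algebra.IsPushout.equiv R RF C G⟩

variable {A : Type u} [CommRing A] [IsRegularLocalRing A] [IsDomain A] {r : ℕ} {f : Fin r → A}
  [∀ i, (Ideal.span {f i}).IsPrime]
  {B : Type u} [CommRing B] [Algebra A B] [Algebra (Localization.Away (∏ i, f i)) B]
  [IsScalarTower A (Localization.Away (∏ i, f i)) B] [Algebra.Etale (Localization.Away (∏ i, f i)) B]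
  [Module.Finite (Localization.Away (∏ i, f i)) B]

omit [IsRegularLocalRing A] [IsDomain A] in
theorem isUnit_factorial_of_charZero [IsLocalRing A] [CharP (ResidueField A) 0] (d : ℕ) :
    IsUnit ((d.factorial : ℕ) : ResidueField A) := by
  haveI := CharP.charP_to_charZero (ResidueField A)
  exact isUnit_iff_ne_zero.2 (Nat.cast_ne_zero.2 d.factorial_ne_zero)

omit [∀ i, (Ideal.span {f i}).IsPrime] [IsDomain A] in
/-- The choice of exponents. -/
theorem exists_exponents [∀ i, (Ideal.span {f i}).IsPrime] (d : ℕ) :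
    ∃ (p k M : ℕ), 1 ≤ M ∧ IsUnit ((M : ℕ) : ResidueField A) ∧ ((p ^ k * M : ℕ) : A) ≠ 0 ∧ 1 ≤ p ^ k * M ∧
      (k ≠ 0 → p.Prime ∧ (p : A) ∈ maximalIdeal A ∧ (p : A) ≠ 0) ∧
      (∀ i (e : ℕ), 0 < e → e ≤ d → (e : ResidueField (Localization.AtPrime (Ideal.span {f i}))) ≠ 0 →
        e ∣ p ^ k * M) ∧
      ∀ i, (p : A) ∈ Ideal.span {f i} → ∀ e : ℕ, 0 < e → e ≤ d →
        (e : ResidueField (Localization.AtPrime (Ideal.span {f i}))) ≠ 0 → e ∣ M := by
  have hunitA : ∀ m : ℕ, IsUnit ((m : ℕ) : ResidueField A) → (m : A) ≠ 0 := fun m hm h => by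
    refine hm.ne_zero ?_
    rw [← map_natCast (residue A), h, map_zero]
  obtain ⟨p, hp⟩ := CharP.exists (ResidueField A)
  rcases CharP.char_is_prime_or_zero (ResidueField A) p with hpp | rfl
  · let N₀ := d.factorial
    let v := N₀.factorization p
    let M := N₀ / p ^ v
    have hN₀ : p ^ v * M = N₀ := Nat.ordProj_mul_ordCompl_eq_self N₀ p
    have hpM : ¬ p ∣ M := Nat.not_dvd_ordCompl hpp d.factorial_ne_zero
    have hM1 : 1 ≤ M := Nat.ordCompl_pos p d.factorial_ne_zero
    have hMu : IsUnit ((M : ℕ) : ResidueField A) :=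
      isUnit_iff_ne_zero.2 fun h => hpM ((CharP.cast_eq_zero_iff (ResidueField A) p M).1 h)
    have hcop : ∀ i, (p : A) ∈ Ideal.span {f i} → ∀ e : ℕ, 0 < e → e ≤ d →
        (e : ResidueField (Localization.AtPrime (Ideal.span {f i}))) ≠ 0 → e ∣ M := fun i hi e he hed hne => by
      have hdvd : e ∣ p ^ v * M := hN₀.symm ▸ Nat.dvd_factorial he hed
      refine Nat.Coprime.dvd_of_dvd_mul_left ?_ hdvd
      refine Nat.Coprime.pow_right v (Nat.Coprime.symm ((Nat.Prime.coprime_iff_not_dvd hpp).2 fun hpe => hne ?_))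
      obtain ⟨c, rfl⟩ := hpe
      have h0 : (p : ResidueField (Localization.AtPrime (Ideal.span {f i}))) = 0 := by
        rw [← map_natCast ((residue (Localization.AtPrime (Ideal.span {f i}))).comp
          (algebraMap A (Localization.AtPrime (Ideal.span {f i})))), RingHom.comp_apply, residue_eq_zero_iff]
        exact (IsLocalization.AtPrime.to_map_mem_maximal_iff _ _ _).2 hi
      rw [Nat.cast_mul, h0, zero_mul]
    have hpm : (p : A) ∈ maximalIdeal A := by
      rw [← residue_eq_zero_iff, map_natCast]
      exact CharP.cast_eq_zero _ p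
    by_cases hp0 : (p : A) = 0
    · refine ⟨p, 0, M, hM1, hMu, by rw [pow_zero, one_mul]; exact hunitA M hMu, by rw [pow_zero, one_mul]; exact hM1,
        fun h => absurd rfl h, fun i e he hed hne => ?_, hcop⟩
      rw [pow_zero, one_mul]
      exact hcop i (hp0 ▸ zero_mem _) e he hed hne
    · refine ⟨p, v, M, hM1, hMu, ?_, ?_, fun _ => ⟨hpp, hpm, hp0⟩, fun i e he hed _ => ?_, hcop⟩
      · rw [Nat.cast_mul, Nat.cast_pow]
        intro h
        haveI : IsDomain A := RegLoc6.isDomain_of_isRegularLocalRing A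
        exact (mul_ne_zero (pow_ne_zero v hp0) (hunitA M hMu)) h
      · rw [hN₀]; exact Nat.one_le_iff_ne_zero.2 d.factorial_ne_zero
      · rw [hN₀]; exact Nat.dvd_factorial he hed
  · have hu := isUnit_factorial_of_charZero (A := A) d
    refine ⟨0, 0, d.factorial, d.factorial_pos, hu, by rw [pow_zero, one_mul]; exact hunitA _ hu,
      by rw [pow_zero, one_mul]; exact d.factorial_pos, fun h => absurd rfl h,
      fun i e he hed _ => by rw [pow_zero, one_mul]; exact Nat.dvd_factorial he hed,
      fun i _ e he hed _ => Nat.dvd_factorial he hed⟩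

/-- Reduction of rationality of the points of a tensor product to the points of the last factor. -/
theorem mem_range_tensor {AF B Kr K' Ω : Type u} [CommRing AF] [CommRing B] [Algebra AF B]
    [Field Kr] [Algebra AF Kr] [Field K'] [Algebra Kr K'] [Field Ω] [Algebra K' Ω]
    (hB : ∀ φ : B →+* Ω, φ.comp (algebraMap AF B) =
      ((algebraMap K' Ω).comp ((algebraMap Kr K').comp (algebraMap AF Kr))) → ∀ b, φ b ∈ (algebraMap K' Ω).range)
    (τ : K' ⊗[Kr] (Kr ⊗[AF] B) →ₐ[K'] Ω) (x : K' ⊗[Kr] (Kr ⊗[AF] B)) :
    τ x ∈ (algebraMap K' Ω).range := by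
  let E := Kr ⊗[AF] B
  let τE : E →+* Ω := τ.toRingHom.comp (Algebra.TensorProduct.includeRight : E →ₐ[Kr] K' ⊗[Kr] E).toRingHom
  have hτE : ∀ c, τE (algebraMap Kr E c) = algebraMap K' Ω (algebraMap Kr K' c) := fun c => by
    show τ ((Algebra.TensorProduct.includeRight : E →ₐ[Kr] K' ⊗[Kr] E) (algebraMap Kr E c)) = _
    rw [AlgHom.commutes, Algebra.TensorProduct.algebraMap_apply]
    exact τ.commutes _
  let φ : B →+* Ω := τE.comp (Algebra.TensorProduct.includeRight : B →ₐ[AF] E).toRingHom
  have hφ := hB φ (RingHom.ext fun a => by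
    show τE ((Algebra.TensorProduct.includeRight : B →ₐ[AF] E) (algebraMap AF B a)) = _
    rw [AlgHom.commutes, Algebra.TensorProduct.algebraMap_apply]
    exact hτE _)
  have hE : ∀ z : E, τE z ∈ (algebraMap K' Ω).range := fun z => by
    induction z using TensorProduct.induction_on with
    | zero => rw [map_zero]; exact zero_mem _
    | tmul c y =>
      rw [← mul_one c, ← one_mul y, ← Algebra.TensorProduct.tmul_mul_tmul, map_mul]
      exact mul_mem ⟨_, (hτE c).symm⟩ (hφ y)
    | add u v hu hv => rw [map_add]; exact add_mem hu hv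
  induction x using TensorProduct.induction_on with
  | zero => rw [map_zero]; exact zero_mem _
  | tmul c e =>
    rw [← mul_one c, ← one_mul e, ← Algebra.TensorProduct.tmul_mul_tmul, map_mul]
    exact mul_mem ⟨c, (τ.commutes c).symm⟩ (hE e)
  | add u v hu hv => rw [map_add]; exact add_mem hu hv

/-- Abhyankar's lemma: a tame cover becomes unramified over a suitable Kummer extension. -/
theorem exists_model (hf : IsParams f) (htame : SGA1.IsTameAlong f (algebraMap A B)) :
    ∃ M : ℕ, 1 ≤ M ∧ IsUnit ((M : ℕ) : ResidueField A) ∧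
      ∃ (C : Type u) (_ : CommRing C) (_ : Algebra (KR f M) C), Module.Finite (KR f M) C ∧
        Algebra.Etale (KR f M) C ∧
        ∀ (RF : Type u) [CommRing RF] [Algebra (KR f M) RF]
          [IsLocalization.Away (algebraMap A (KR f M) (∏ i, f i)) RF] [Algebra (Localization.Away (∏ i, f i)) RF],
          (∀ a, algebraMap (Localization.Away (∏ i, f i)) RF (algebraMap A _ a) =
            algebraMap (KR f M) RF (algebraMap A (KR f M) a)) →
          Nonempty (RF ⊗[KR f M] C ≃ₐ[RF] RF ⊗[Localization.Away (∏ i, f i)] B) := by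
  let K₀ := FractionRing A
  obtain ⟨d, hd⟩ := exists_degBound (B := B) K₀ hf
  obtain ⟨p, k, M, hM1, hMu, hNA, hN1, hk, hN, hM⟩ := exists_exponents (f := f) d
  refine ⟨M, hM1, hMu, ?_⟩
  haveI := KR.isRegularLocalRing hf hM1
  haveI := KR.isDomain hf hM1
  haveI : IsIntegrallyClosed (KR f M) := RegLoc6.isIntegrallyClosed_of_isRegularLocalRing _
  have hMinjA : Function.Injective (algebraMap A (KR f M)) := RGLib.Kummer.injective f (fun _ => M) fun _ => hM1
  obtain ⟨H, _, _, _, _, _, hsh, _, hHhens, hHsep, hHmax, hHdim⟩ := exists_strictHenselization (KR f M)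
  haveI := hsh
  haveI := hHsep
  obtain ⟨hTm, hTli⟩ := linearIndependent_roots f hf.mem hf.li (fun _ => M) (fun _ => hM1)
  have hHinj : Function.Injective (algebraMap (KR f M) H) := FaithfulSMul.algebraMap_injective (KR f M) H
  have hTH : ∀ i, algebraMap (KR f M) H (RGLib.Kummer.T f (fun _ => M) i) ∈ maximalIdeal H := fun i =>
    hHmax ▸ Ideal.mem_map_of_mem _ (hTm i)
  have hTHli := linearIndependent_lift (A := KR f M) (B := H) hHdim (RGLib.Kummer.T f (fun _ => M)) hTm hTli
    (fun i => algebraMap (KR f M) H (RGLib.Kummer.T f (fun _ => M) i)) hTH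
    (fun i => Ideal.subset_span ⟨i, rfl⟩) (le_sup_of_le_right hHmax.ge) hHmax.le
  -- the generic fibre
  let F := ∏ i, f i
  let g := algebraMap A (KR f M) F
  have hg0 : g ≠ 0 := (map_ne_zero_iff _ hMinjA).2 hf.prod_ne_zero
  obtain ⟨Kr, _, _, _, _, _, hT1, hT2⟩ := exists_fractionField K₀ (KR f M) hMinjA
  haveI := hT1
  haveI := hT2
  have hgu : IsUnit (algebraMap (KR f M) Kr g) :=
    isUnit_iff_ne_zero.2 ((map_ne_zero_iff _ (IsFractionRing.injective (KR f M) Kr)).2 hg0)
  have hFu : IsUnit (algebraMap A Kr F) := by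
    rw [IsScalarTower.algebraMap_apply A (KR f M) Kr]
    exact hgu
  letI : Algebra (Localization.Away F) Kr := (IsLocalization.Away.lift F hFu : Localization.Away F →+* Kr).toAlgebra
  haveI : IsScalarTower A (Localization.Away F) Kr :=
    IsScalarTower.of_algebraMap_eq (R := A) (S := Localization.Away F) (A := Kr)
      fun a => (IsLocalization.Away.lift_eq F hFu a).symm
  let E := Kr ⊗[Localization.Away F] B
  have hpow : Submonoid.powers g ≤ nonZeroDivisors (KR f M) := by
    rintro _ ⟨m, rfl⟩
    exact pow_mem (mem_nonZeroDivisors_of_ne_zero hg0) m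
  -- splitting over the strict henselization
  have hAH : Function.Injective ((algebraMap (KR f M) H).comp (algebraMap A (KR f M))) := hHinj.comp hMinjA
  letI : Algebra A H := ((algebraMap (KR f M) H).comp (algebraMap A (KR f M))).toAlgebra
  obtain ⟨K', _, _, _, _, _, hT3, -⟩ := exists_fractionField K₀ H (show Function.Injective (algebraMap A H) from hAH)
  haveI := hT3
  have hKr : Function.Injective ((algebraMap H K').comp (algebraMap (KR f M) H)) :=
    (IsFractionRing.injective H K').comp hHinj
  letI : Algebra Kr K' := (IsFractionRing.lift hKr : Kr →+* K').toAlgebra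
  letI : Algebra (KR f M) K' := ((algebraMap H K').comp (algebraMap (KR f M) H)).toAlgebra
  haveI : IsScalarTower (KR f M) H K' :=
    IsScalarTower.of_algebraMap_eq (R := KR f M) (S := H) (A := K') fun _ => rfl
  haveI : IsScalarTower (KR f M) Kr K' :=
    IsScalarTower.of_algebraMap_eq (R := KR f M) (S := Kr) (A := K') fun a => (IsFractionRing.lift_algebraMap hKr a).symm
  let Ω := AlgebraicClosure K'
  letI : Algebra H Ω := ((algebraMap K' Ω).comp (algebraMap H K')).toAlgebra
  letI : Algebra A Ω := ((algebraMap H Ω).comp (algebraMap A H)).toAlgebra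
  have hHΩ : Function.Injective (algebraMap H Ω) :=
    (algebraMap K' Ω).injective.comp (IsFractionRing.injective H K')
  have hB : ∀ φ : B →+* Ω, φ.comp (algebraMap (Localization.Away F) B) =
      ((algebraMap K' Ω).comp ((algebraMap Kr K').comp (algebraMap (Localization.Away F) Kr))) →
      ∀ b, φ b ∈ (algebraMap K' Ω).range := by
    intro φ hφ b
    have hcomm : ∀ a, φ (algebraMap A B a) = algebraMap A Ω a := fun a => by
      have h1 := RingHom.congr_fun hφ (algebraMap A (Localization.Away F) a)
      simp only [RingHom.comp_apply] at h1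
      rw [← IsScalarTower.algebraMap_apply A (Localization.Away F) B,
        ← IsScalarTower.algebraMap_apply A (Localization.Away F) Kr, IsScalarTower.algebraMap_apply A (KR f M) Kr,
        ← IsScalarTower.algebraMap_apply (KR f M) Kr K', IsScalarTower.algebraMap_apply (KR f M) H K'] at h1
      exact h1
    let φA : B →ₐ[A] Ω := { φ with commutes' := hcomm }
    obtain ⟨a, c, hc, hac⟩ := mem_range_point hf htame K₀ d hd M hM1 p k hNA hN1 hk hN hM hHhens hTH hTHli Ω
      hHΩ (fun _ => rfl) φA b
    have hc0 : algebraMap H Ω c ≠ 0 := (map_ne_zero_iff _ hHΩ).2 hc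
    refine ⟨algebraMap H K' a / algebraMap H K' c, ?_⟩
    rw [map_div₀, eq_comm, eq_div_iff]
    · exact hac
    · exact hc0
  obtain ⟨ι, hι, ⟨Θ⟩⟩ := exists_algEquiv_pi_of_points Ω (X := K' ⊗[Kr] E) fun τ x => mem_range_tensor hB τ x
  obtain ⟨hCet, hCfin⟩ := SHSplit.etale_integralClosure (A := KR f M) H Kr K' (M := E) Θ
  refine ⟨integralClosure (KR f M) E, inferInstance, inferInstance, hCfin, hCet, fun RF _ _ _ _ hcompat => ?_⟩
  letI : Algebra RF Kr := (IsLocalization.Away.lift g hgu : RF →+* Kr).toAlgebra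
  haveI : IsScalarTower (KR f M) RF Kr :=
    IsScalarTower.of_algebraMap_eq (R := KR f M) (S := RF) (A := Kr) fun a => (IsLocalization.Away.lift_eq g hgu a).symm
  haveI : IsDomain RF := IsLocalization.isDomain_of_le_nonZeroDivisors (S := RF) hpow
  haveI : IsFractionRing RF Kr := IsFractionRing.isFractionRing_of_isLocalization (Submonoid.powers g) RF Kr hpow
  haveI : IsScalarTower (Localization.Away F) RF Kr :=
    IsScalarTower.of_algebraMap_eq' (IsLocalization.ringHom_ext (Submonoid.powers F) (RingHom.ext fun a => by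
      simp only [RingHom.comp_apply]
      rw [hcompat, ← IsScalarTower.algebraMap_apply (KR f M) RF Kr, ← IsScalarTower.algebraMap_apply A (KR f M) Kr,
        ← IsScalarTower.algebraMap_apply A (Localization.Away F) Kr]))
  let G := RF ⊗[Localization.Away F] B
  letI : Algebra G E := (Algebra.TensorProduct.map (Algebra.ofId RF Kr) (AlgHom.id (Localization.Away F) B) :
    G →ₐ[RF] E).toRingHom.toAlgebra
  haveI : IsScalarTower RF G E := IsScalarTower.of_algebraMap_eq (R := RF) (S := G) (A := E) fun c =>
    ((Algebra.TensorProduct.map (Algebra.ofId RF Kr) (AlgHom.id (Localization.Away F) B) : G →ₐ[RF] E).commutes c).symm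
  letI : Algebra B G := Algebra.TensorProduct.rightAlgebra
  letI : Algebra B E := Algebra.TensorProduct.rightAlgebra
  haveI : IsScalarTower B G E := IsScalarTower.of_algebraMap_eq (R := B) (S := G) (A := E) fun b => by
    show (1 : Kr) ⊗ₜ b = Algebra.TensorProduct.map (Algebra.ofId RF Kr) (AlgHom.id (Localization.Away F) B)
      ((1 : RF) ⊗ₜ b)
    simp
  haveI : IsScalarTower (Localization.Away F) G E :=
    IsScalarTower.of_algebraMap_eq (R := Localization.Away F) (S := G) (A := E) fun x => by
      rw [IsScalarTower.algebraMap_apply (Localization.Away F) RF G, ← IsScalarTower.algebraMap_apply RF G E,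
        ← IsScalarTower.algebraMap_apply (Localization.Away F) RF E]
  haveI : Algebra.IsPushout (Localization.Away F) RF B G := TensorProduct.isPushout
  haveI : Algebra.IsPushout (Localization.Away F) Kr B E := TensorProduct.isPushout
  haveI : Algebra.IsPushout RF Kr G E :=
    (Algebra.IsPushout.comp_iff (R := Localization.Away F) (S := RF) (R' := B) (S' := G) (T := Kr) (T' := E)).1
      inferInstance
  exact exists_algEquiv_integralClosure (KR f M) g RF Kr G E

end Groth.Agent.AbhAbs
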