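import Mathlib
import Groth.Prelude.Def_SGA1
import Groth.Prelude.Def_FEt
import Groth.Agent.AbhAbs.Main

/-!
# Abhyankar's lemma, absolute form, for covers
-/

set_option autoImplicit false
set_option linter.style.haveILetI false
set_option backward.isDefEq.respectTransparency false
set_option backward.isDefEq.respectTransparency.types false
set_option maxHeartbeats 1000000

universe u

open CategoryTheory CategoryTheory.Limits AlgebraicGeometry IsLocalRing TensorProduct

noncomputable section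

namespace Groth.Agent.AbhAbs

theorem range_specMap_away {A : Type u} [CommRing A] (F : A) (AF : Type u) [CommRing AF] [Algebra A AF]
    [IsLocalization.Away F AF] :
    Set.range (Spec.map (CommRingCat.ofHom (algebraMap A AF))).base = (PrimeSpectrum.basicOpen F : Set (PrimeSpectrum A)) :=
  PrimeSpectrum.localization_away_comap_range AF F

/-- `Spec A[1/F]` is the basic open. -/
def specAwayIso {A : Type u} [CommRing A] (F : A) (AF : Type u) [CommRing AF] [Algebra A AF] [IsLocalization.Away F AF]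
    (U : (Spec (CommRingCat.of A)).Opens) (hU : (U : Set (Spec (CommRingCat.of A))) =
      (PrimeSpectrum.basicOpen F : Set (PrimeSpectrum A))) :
    Spec (CommRingCat.of AF) ≅ (U : Scheme.{u}) :=
  haveI : IsOpenImmersion (Spec.map (CommRingCat.ofHom (algebraMap A AF))) := IsOpenImmersion.of_isLocalization F
  IsOpenImmersion.isoOfRangeEq (Spec.map (CommRingCat.ofHom (algebraMap A AF))) U.ι
    ((range_specMap_away F AF).trans (hU.symm.trans U.range_ι.symm))

theorem specAwayIso_ι {A : Type u} [CommRing A] (F : A) (AF : Type u) [CommRing AF] [Algebra A AF]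
    [IsLocalization.Away F AF] (U : (Spec (CommRingCat.of A)).Opens)
    (hU : (U : Set (Spec (CommRingCat.of A))) = (PrimeSpectrum.basicOpen F : Set (PrimeSpectrum A))) :
    (specAwayIso F AF U hU).hom ≫ U.ι = Spec.map (CommRingCat.ofHom (algebraMap A AF)) :=
  haveI : IsOpenImmersion (Spec.map (CommRingCat.ofHom (algebraMap A AF))) := IsOpenImmersion.of_isLocalization F
  IsOpenImmersion.isoOfRangeEq_hom_fac _ _ _

/-- Base change of an affine morphism seen through isomorphisms. -/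
theorem isPullback_spec_iso (S S' P : Type u) [CommRing S] [CommRing S'] [CommRing P] [Algebra S S'] [Algebra S P]
    {X T T' : Scheme.{u}} (eX : Spec (CommRingCat.of P) ≅ X) (eT : Spec (CommRingCat.of S) ≅ T)
    (eT' : Spec (CommRingCat.of S') ≅ T') (q : X ⟶ T) (g : T' ⟶ T)
    (hq : Spec.map (CommRingCat.ofHom (algebraMap S P)) ≫ eT.hom = eX.hom ≫ q)
    (hg : Spec.map (CommRingCat.ofHom (algebraMap S S')) ≫ eT.hom = eT'.hom ≫ g) :
    IsPullback (Spec.map (CommRingCat.ofHom
        (Algebra.TensorProduct.includeRight : P →ₐ[S] S' ⊗[S] P).toRingHom) ≫ eX.hom)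
      (Spec.map (CommRingCat.ofHom (algebraMap S' (S' ⊗[S] P))) ≫ eT'.hom) q g := by
  letI : Algebra P (S' ⊗[S] P) := Algebra.TensorProduct.rightAlgebra
  have h0 := (isPullback_SpecMap_of_isPushout _ _ _ _ (CommRingCat.isPushout_tensorProduct S S' P)).flip
  exact h0.of_iso (Iso.refl _) eX eT' eT (Category.id_comp _).symm (Category.id_comp _).symm hq hg

/-- The isomorphism of spectra of an algebra isomorphism. -/
def specIso (S : Type u) [CommRing S] (P Q : Type u) [CommRing P] [CommRing Q] [Algebra S P] [Algebra S Q]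
    (e : P ≃ₐ[S] Q) : Spec (CommRingCat.of P) ≅ Spec (CommRingCat.of Q) where
  hom := Spec.map (CommRingCat.ofHom e.symm.toRingEquiv.toRingHom)
  inv := Spec.map (CommRingCat.ofHom e.toRingEquiv.toRingHom)
  hom_inv_id := by
    rw [← Spec.map_comp, ← Spec.map_id]
    congr 1
    ext x
    exact e.symm_apply_apply x
  inv_hom_id := by
    rw [← Spec.map_comp, ← Spec.map_id]
    congr 1
    ext x
    exact e.apply_symm_apply x

theorem specIso_w (S : Type u) [CommRing S] (P Q : Type u) [CommRing P] [CommRing Q] [Algebra S P] [Algebra S Q]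
    (e : P ≃ₐ[S] Q) : (specIso S P Q e).hom ≫ Spec.map (CommRingCat.ofHom (algebraMap S Q)) =
      Spec.map (CommRingCat.ofHom (algebraMap S P)) := by
  show Spec.map _ ≫ Spec.map _ = _
  rw [← Spec.map_comp]
  congr 1
  ext c
  exact e.symm.commutes c

/-- An isomorphism over the base from two pullback squares. -/
theorem nonempty_iso_of_squares {X₁ T₁ X₂ T₂ U' P₁ P₂ : Scheme.{u}} {q₁ : X₁ ⟶ T₁} {g₁ : U' ⟶ T₁} {q₂ : X₂ ⟶ T₂}
    {g₂ : U' ⟶ T₂} {a₁ : P₁ ⟶ X₁} {b₁ : P₁ ⟶ U'} {a₂ : P₂ ⟶ X₂} {b₂ : P₂ ⟶ U'} (h₁ : IsPullback a₁ b₁ q₁ g₁)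
    (h₂ : IsPullback a₂ b₂ q₂ g₂) (e : P₁ ≅ P₂) (he : e.hom ≫ b₂ = b₁) :
    ∃ t : pullback q₁ g₁ ≅ pullback q₂ g₂, t.hom ≫ pullback.snd q₂ g₂ = pullback.snd q₁ g₁ := by
  refine ⟨h₁.isoPullback.symm ≪≫ e ≪≫ h₂.isoPullback, ?_⟩
  simp only [Iso.trans_hom, Iso.symm_hom, Category.assoc, h₂.isoPullback_hom_snd, he, Iso.inv_comp_eq,
    h₁.isoPullback_hom_snd]

/-- An isomorphism of restricted covers from two pullback squares. -/
theorem nonempty_restrict_iso {S₁ S₂ U' P₁ P₂ : Scheme.{u}} (W₁ : FEt.Cat S₁) (W₂ : FEt.Cat S₂) (g₁ : U' ⟶ S₁)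
    (g₂ : U' ⟶ S₂) {a₁ : P₁ ⟶ W₁.left} {b₁ : P₁ ⟶ U'} {a₂ : P₂ ⟶ W₂.left} {b₂ : P₂ ⟶ U'}
    (h₁ : IsPullback a₁ b₁ W₁.hom g₁) (h₂ : IsPullback a₂ b₂ W₂.hom g₂) (e : P₁ ≅ P₂) (he : e.hom ≫ b₂ = b₁) :
    Nonempty ((FEt.restrict g₁).obj W₁ ≅ (FEt.restrict g₂).obj W₂) := by
  obtain ⟨t, ht⟩ := nonempty_iso_of_squares h₁ h₂ e he
  exact ⟨MorphismProperty.Over.isoMk t ht⟩

/-- The isomorphism of spectra followed by a common map. -/
theorem specIso_w_comp (S : Type u) [CommRing S] (P Q : Type u) [CommRing P] [CommRing Q] [Algebra S P] [Algebra S Q]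
    (e : P ≃ₐ[S] Q) {T : Scheme.{u}} (g : Spec (CommRingCat.of S) ⟶ T) :
    (specIso S P Q e).hom ≫ (Spec.map (CommRingCat.ofHom (algebraMap S Q)) ≫ g) =
      Spec.map (CommRingCat.ofHom (algebraMap S P)) ≫ g := by
  rw [← Category.assoc, specIso_w]

theorem abhyankar_absolute (A : Type u) [CommRing A] [IsRegularLocalRing A] [IsDomain A] (r : ℕ) (f : Fin r → A)
    (hf : IsParams f) [∀ i, (Ideal.span {f i}).IsPrime]
    (V : FEt.Cat ((SGA1.specBasicOpen A (∏ i, f i)) : Scheme.{u})) (htame : SGA1.IsTameAlong f (((V.hom ≫ ((SGA1.specBasicOpen A (∏ i, f i))).ι).appTop).hom.comp (Scheme.ΓSpecIso (CommRingCat.of A)).inv.hom)) :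
    ∃ M : ℕ, 1 ≤ M ∧ IsUnit ((M : ℕ) : ResidueField A) ∧
      ∃ W : FEt.Cat (Spec (CommRingCat.of (SGA1.kummerAlg A f (fun _ => M)))),
        Nonempty ((FEt.restrict ((Spec.map (CommRingCat.ofHom (algebraMap A (SGA1.kummerAlg A f (fun _ => M))))) ⁻¹ᵁ (SGA1.specBasicOpen A (∏ i, f i))).ι).obj W ≅ (FEt.restrict ((Spec.map (CommRingCat.ofHom (algebraMap A (SGA1.kummerAlg A f (fun _ => M))))) ∣_ (SGA1.specBasicOpen A (∏ i, f i)))).obj V) := by
  let F := ∏ i, f i
  let U := SGA1.specBasicOpen A F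
  let AF := Localization.Away F
  let e0 := specAwayIso F AF U rfl
  haveI : IsFinite V.hom := V.prop.1
  haveI : Etale V.hom := V.prop.2
  let v : V.left ⟶ (U : Scheme.{u}) := V.hom
  haveI : IsFinite v := V.prop.1
  haveI : Etale v := V.prop.2
  let f0 : V.left ⟶ Spec (CommRingCat.of AF) := v ≫ e0.inv
  haveI : IsAffine V.left := isAffine_of_isAffineHom f0
  let B := Γ(V.left, ⊤)
  let φ : A →+* B := ((v ≫ U.ι).appTop).hom.comp (Scheme.ΓSpecIso (CommRingCat.of A)).inv.hom
  let ψc : CommRingCat.of AF ⟶ B := Spec.preimage (V.left.isoSpec.inv ≫ f0)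
  have hψc : Spec.map ψc = V.left.isoSpec.inv ≫ f0 := Spec.map_preimage _
  have hφ : CommRingCat.ofHom (algebraMap A AF) ≫ ψc = CommRingCat.ofHom φ := by
    refine Spec.map_injective ?_
    rw [Spec.map_comp, hψc, ← specAwayIso_ι F AF U rfl]
    show (V.left.isoSpec.inv ≫ v ≫ e0.inv) ≫ e0.hom ≫ U.ι =
      Spec.map ((Scheme.ΓSpecIso (CommRingCat.of A)).inv ≫ (v ≫ U.ι).appTop)
    rw [Spec.map_comp, Category.assoc, Category.assoc, Iso.inv_hom_id_assoc, Iso.inv_comp_eq,
      Scheme.isoSpec_hom_naturality_assoc, Scheme.isoSpec_Spec_hom, ← Spec.map_comp, Iso.inv_hom_id, Spec.map_id,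
      Category.comp_id]
  letI : Algebra A B := φ.toAlgebra
  letI : Algebra AF B := ψc.hom.toAlgebra
  haveI : IsScalarTower A AF B := IsScalarTower.of_algebraMap_eq (R := A) (S := AF) (A := B) fun a =>
    (RingHom.congr_fun (congrArg CommRingCat.Hom.hom hφ) a).symm
  haveI hFinS : IsFinite (Spec.map ψc) := by rw [hψc]; infer_instance
  haveI hEtS : Etale (Spec.map ψc) := by rw [hψc]; infer_instance
  haveI : Module.Finite AF B := RingHom.finite_algebraMap.1 ((IsFinite.SpecMap_iff _).1 hFinS)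
  haveI : Algebra.Etale AF B := RingHom.etale_algebraMap.1 ((HasRingHomProperty.Spec_iff (P := @Etale)).1 hEtS)
  obtain ⟨M, hM1, hMu, C, _, _, hCfin, hCet, hiso⟩ := exists_model (A := A) (B := B) hf htame
  refine ⟨M, hM1, hMu, ?_⟩
  haveI := hCfin
  haveI := hCet
  let R := KR f M
  let g := algebraMap A R F
  let RF := Localization.Away g
  letI : Algebra AF RF := (IsLocalization.Away.lift F (g := (algebraMap R RF).comp (algebraMap A R))
    (IsLocalization.Away.algebraMap_isUnit g) : AF →+* RF).toAlgebra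
  have hcompat : ∀ a, algebraMap AF RF (algebraMap A AF a) = algebraMap R RF (algebraMap A R a) := fun a =>
    IsLocalization.Away.lift_eq F _ a
  obtain ⟨σ⟩ := hiso RF hcompat
  let π := Spec.map (CommRingCat.ofHom (algebraMap A R))
  let U' := π ⁻¹ᵁ U
  have hU' : (U' : Set (Spec (CommRingCat.of R))) = (PrimeSpectrum.basicOpen g : Set (PrimeSpectrum R)) := rfl
  let eU := specAwayIso g RF U' hU'
  let W : FEt.Cat (Spec (CommRingCat.of R)) := MorphismProperty.Over.mk ⊤
    (Spec.map (CommRingCat.ofHom (algebraMap R C)))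
    (show IsFinite _ ∧ Etale _ from ⟨(IsFinite.SpecMap_iff _).2 (RingHom.finite_algebraMap.2 hCfin),
      (HasRingHomProperty.Spec_iff (P := @Etale)).2 (RingHom.etale_algebraMap.2 hCet)⟩)
  refine ⟨W, ?_⟩
  -- the restriction of the algebra side
  have hW := isPullback_spec_iso R RF C (Iso.refl _) (Iso.refl _) eU W.hom U'.ι
    ((Category.comp_id _).trans (Category.id_comp W.hom).symm)
    ((Category.comp_id _).trans (specAwayIso_ι g RF U' hU').symm)
  have hV := isPullback_spec_iso AF RF B V.left.isoSpec.symm e0 eU v (π ∣_ U)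
    (by
      show Spec.map ψc ≫ e0.hom = V.left.isoSpec.inv ≫ v
      rw [hψc]
      simp [f0])
    (by
      rw [← cancel_mono U.ι, Category.assoc, Category.assoc, specAwayIso_ι, morphismRestrict_ι, ← Category.assoc,
        specAwayIso_ι, ← Spec.map_comp, ← Spec.map_comp]
      congr 1
      ext a
      exact hcompat a)
  let es := specIso RF _ _ σ
  have hs := specIso_w_comp RF _ _ σ eU.hom
  have hh := nonempty_restrict_iso W V U'.ι (π ∣_ U) hW hV es hs
  exact hh

end Groth.Agent.AbhAbs
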