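import Mathlib
import Groth.Agent.AbhAbs.Scheme
import Groth.Agent.Hensel.StrictSchemes
import Groth.Agent.Hensel.IntegralStrict

/-!
# Kummer coverings dominate tame covers over a strictly henselian base
-/

set_option autoImplicit false
set_option linter.style.haveILetI false
set_option backward.isDefEq.respectTransparency false
set_option backward.isDefEq.respectTransparency.types false
set_option maxHeartbeats 1000000

universe u

open CategoryTheory CategoryTheory.Limits AlgebraicGeometry IsLocalRing

noncomputable section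

namespace Groth.Agent.AbhAbs

/-- The Kummer algebra is étale away from the divisor. -/
theorem etale_away (A : Type u) [CommRing A] [IsNoetherianRing A] (r : ℕ) (f : Fin r → A) (M : ℕ)
    (hM : 1 ≤ M) (hMu : IsUnit (M : A)) (AF : Type u) [CommRing AF] [Algebra A AF] [IsLocalization.Away (∏ i, f i) AF]
    (RF : Type u) [CommRing RF] [Algebra (RGLib.Kummer.K A f fun _ => M) RF] [Algebra A RF]
    [IsScalarTower A (RGLib.Kummer.K A f fun _ => M) RF]
    [IsLocalization.Away (algebraMap A (RGLib.Kummer.K A f fun _ => M) (∏ i, f i)) RF]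
    [Algebra AF RF] [IsScalarTower A AF RF] : Algebra.Etale AF RF := by
  haveI : Algebra.FormallyEtale AF RF := RGLib.Kummer.formallyEtale_away f (fun _ => M) (fun _ => hM) (∏ i, f i)
    (fun i => Finset.dvd_prod_of_mem f (Finset.mem_univ i)) (fun _ => hMu) AF RF
  haveI := RGLib.Kummer.finite f (fun _ => M) (fun _ => hM)
  haveI : Algebra.FiniteType (RGLib.Kummer.K A f fun _ => M) RF :=
    haveI := IsLocalization.Away.finitePresentation (algebraMap A (RGLib.Kummer.K A f fun _ => M) (∏ i, f i)) (S := RF)
    inferInstance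
  haveI : Algebra.FiniteType A RF :=
    Algebra.FiniteType.trans (inferInstance : Algebra.FiniteType A (RGLib.Kummer.K A f fun _ => M)) inferInstance
  haveI : Algebra.FiniteType AF RF := Algebra.FiniteType.of_restrictScalars_finiteType A AF RF
  haveI : IsNoetherianRing AF := IsLocalization.isNoetherianRing (Submonoid.powers (∏ i, f i)) AF inferInstance
  exact { formallyEtale := inferInstance, finitePresentation := Algebra.FinitePresentation.of_finiteType.1 inferInstance }

/-- A localization with its tower structures. -/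
theorem exists_away {A R : Type u} [CommRing A] [CommRing R] [Algebra A R] (F : A) (AF : Type u) [CommRing AF]
    [Algebra A AF] [IsLocalization.Away F AF] :
    ∃ (RF : Type u) (_ : CommRing RF) (_ : Algebra R RF) (_ : Algebra A RF) (_ : Algebra AF RF),
      IsScalarTower A R RF ∧ IsLocalization.Away (algebraMap A R F) RF ∧ IsScalarTower A AF RF := by
  let RF := Localization.Away (algebraMap A R F)
  letI aA : Algebra A RF := ((algebraMap R RF).comp (algebraMap A R)).toAlgebra
  let σ : AF →+* RF := IsLocalization.Away.lift F (g := (algebraMap R RF).comp (algebraMap A R))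
    (IsLocalization.Away.algebraMap_isUnit (algebraMap A R F))
  letI aF : Algebra AF RF := σ.toAlgebra
  exact ⟨RF, inferInstance, inferInstance, aA, aF, IsScalarTower.of_algebraMap_eq fun _ => rfl, inferInstance,
    IsScalarTower.of_algebraMap_eq fun a =>
      (IsLocalization.Away.lift_eq F (g := (algebraMap R RF).comp (algebraMap A R)) _ a).symm⟩

/-- The Kummer covering is étale away from the divisor. -/
theorem etale_morphismRestrict (A : Type u) [CommRing A] [IsNoetherianRing A] (r : ℕ) (f : Fin r → A) (M : ℕ)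
    (hM : 1 ≤ M) (hMu : IsUnit (M : A)) :
    Etale ((Spec.map (CommRingCat.ofHom (algebraMap A (SGA1.kummerAlg A f (fun _ => M))))) ∣_
      (SGA1.specBasicOpen A (∏ i, f i))) := by
  let F := ∏ i, f i
  let R := KR f M
  let AF := Localization.Away F
  let g := algebraMap A R F
  let U := SGA1.specBasicOpen A F
  obtain ⟨RF, _, _, _, _, h1, h2, h3⟩ := exists_away (R := KR f M) F AF
  haveI := h1
  haveI := h2
  haveI := h3
  haveI : Algebra.Etale AF RF := etale_away A r f M hM hMu AF RF
  let π := Spec.map (CommRingCat.ofHom (algebraMap A R))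
  let U' := π ⁻¹ᵁ U
  let e0 := specAwayIso F AF U rfl
  let eU := specAwayIso g RF U' rfl
  have hsq : eU.hom ≫ (π ∣_ U) = Spec.map (CommRingCat.ofHom (algebraMap AF RF)) ≫ e0.hom := by
    rw [← cancel_mono U.ι, Category.assoc, Category.assoc, specAwayIso_ι, morphismRestrict_ι, ← Category.assoc,
      specAwayIso_ι, ← Spec.map_comp, ← Spec.map_comp]
    congr 1
    ext a
    exact (IsScalarTower.algebraMap_apply A R RF a).symm.trans (IsScalarTower.algebraMap_apply A AF RF a)
  haveI : Etale (Spec.map (CommRingCat.ofHom (algebraMap AF RF))) :=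
    (HasRingHomProperty.Spec_iff (P := @Etale)).2 (RingHom.etale_algebraMap.2 inferInstance)
  show Etale (π ∣_ U)
  rw [show π ∣_ U = eU.inv ≫ Spec.map (CommRingCat.ofHom (algebraMap AF RF)) ≫ e0.hom by
    rw [← hsq, Iso.inv_hom_id_assoc]]
  infer_instance

/-- A nonempty finite étale cover of a strictly henselian local scheme has a section. -/
theorem exists_section (R : Type u) [CommRing R] [HenselianLocalRing R] [IsSepClosed (ResidueField R)]
    (W : FEt.Cat (Spec (CommRingCat.of R))) (w : W.left) :
    ∃ s : Spec (CommRingCat.of R) ⟶ W.left, s ≫ W.hom = 𝟙 _ := by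
  let h : W.left ⟶ Spec (CommRingCat.of R) := W.hom
  haveI : IsFinite h := W.prop.1
  haveI : Etale h := W.prop.2
  obtain ⟨x, hx⟩ : closedPoint R ∈ Set.range h.base :=
    (h.isClosedMap.isClosed_range).stableUnderSpecialization (IsLocalRing.specializes_closedPoint (h.base w)) ⟨w, rfl⟩
  obtain ⟨u, hu, -⟩ := (Hensel.strictlyHenselian_iff_exists_section R).1 ⟨inferInstance, inferInstance⟩
    W.left h inferInstance x hx
  exact ⟨u, hu⟩

theorem exists_dominating (A : Type u) [CommRing A] [IsRegularLocalRing A] [IsDomain A] (r : ℕ) (f : Fin r → A)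
    (hf : IsParams f) [∀ i, (Ideal.span {f i}).IsPrime] (hAh : HenselianLocalRing A) [IsSepClosed (ResidueField A)]
    (V : FEt.Cat ((SGA1.specBasicOpen A (∏ i, f i)) : Scheme.{u})) (hV : ConnectedSpace V.left)
    (htame : SGA1.IsTameAlong f (((V.hom ≫ ((SGA1.specBasicOpen A (∏ i, f i))).ι).appTop).hom.comp
      (Scheme.ΓSpecIso (CommRingCat.of A)).inv.hom)) :
    ∃ M : ℕ, 1 ≤ M ∧ IsUnit ((M : ℕ) : ResidueField A) ∧
      ∃ φ : (↑((Spec.map (CommRingCat.ofHom (algebraMap A (SGA1.kummerAlg A f (fun _ => M))))) ⁻¹ᵁ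
          (SGA1.specBasicOpen A (∏ i, f i))) : Scheme.{u}) ⟶ V.left,
        φ ≫ V.hom = (Spec.map (CommRingCat.ofHom (algebraMap A (SGA1.kummerAlg A f (fun _ => M))))) ∣_
          (SGA1.specBasicOpen A (∏ i, f i)) ∧ Surjective φ := by
  obtain ⟨M, hM, hMu, W, ⟨θ⟩⟩ := abhyankar_absolute A r f hf V htame
  refine ⟨M, hM, hMu, ?_⟩
  have hMA : IsUnit (M : A) := by
    refine IsUnit.of_map (residue A) _ ?_
    rwa [map_natCast]
  let R := KR f M
  haveI : IsRegularLocalRing R := KR.isRegularLocalRing hf hM
  haveI : IsDomain R := KR.isDomain hf hM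
  haveI := RGLib.Kummer.finite f (fun _ => M) (fun _ => hM)
  haveI := hAh
  haveI : IsLocalHom (algebraMap A R) := Hensel.isLocalHom_of_isIntegral_local A R
  haveI : HenselianLocalRing R := Hensel.henselianLocalRing_of_isIntegral_local A R
  haveI : IsSepClosed (ResidueField R) := (Hensel.residueField_of_isIntegral A R).1
  have hinj : Function.Injective (algebraMap A R) := RGLib.Kummer.injective f (fun _ => M) fun _ => hM
  let U := SGA1.specBasicOpen A (∏ i, f i)
  let π := Spec.map (CommRingCat.ofHom (algebraMap A R))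
  let U' := π ⁻¹ᵁ U
  let p : (U' : Scheme.{u}) ⟶ (U : Scheme.{u}) := π ∣_ U
  haveI : IsFinite p := by
    haveI : IsFinite π := (IsFinite.SpecMap_iff _).2 (RingHom.finite_algebraMap.2 inferInstance)
    infer_instance
  haveI : Etale p := etale_morphismRestrict A r f M hM hMA
  let v : V.left ⟶ (U : Scheme.{u}) := V.hom
  haveI : IsFinite v := V.prop.1
  haveI : Etale v := V.prop.2
  -- `W` is nonempty
  obtain ⟨x⟩ := hV.toNonempty
  let P : Ideal A := (v.base x).1.asIdeal
  obtain ⟨Q, -, hQ, hQP⟩ := Ideal.exists_ideal_over_prime_of_isIntegral P (⊥ : Ideal R) (by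
    rw [← RingHom.ker_eq_comap_bot, (RingHom.injective_iff_ker_eq_bot _).1 hinj]; exact bot_le)
  have hπQ : π.base (⟨Q, hQ⟩ : PrimeSpectrum R) = (v.base x).1 := PrimeSpectrum.ext hQP
  let u' : (U' : Scheme.{u}) := ⟨(⟨Q, hQ⟩ : PrimeSpectrum R), show π.base _ ∈ U from hπQ ▸ (v.base x).2⟩
  have hu' : p.base u' = v.base x := Subtype.ext ((morphismRestrict_base_coe π U u').trans hπQ)
  obtain ⟨z, -, -⟩ := Scheme.Pullback.exists_preimage_pullback (f := v) (g := p) x u' hu'.symm
  obtain ⟨s, hs⟩ := exists_section R W ((pullback.fst W.hom U'.ι).base (θ.inv.left.base z))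
  let σ : (U' : Scheme.{u}) ⟶ pullback W.hom U'.ι :=
    pullback.lift (U'.ι ≫ s) (𝟙 _) ((Category.assoc _ _ _).trans (by rw [hs]; simp))
  let φ : (U' : Scheme.{u}) ⟶ V.left := σ ≫ θ.hom.left ≫ pullback.fst v p
  have hθ : θ.hom.left ≫ pullback.snd v p = pullback.snd W.hom U'.ι := Over.w θ.hom.hom
  have hφ : φ ≫ v = p := by
    show (σ ≫ θ.hom.left ≫ pullback.fst v p) ≫ v = p
    rw [Category.assoc, Category.assoc, pullback.condition, ← Category.assoc θ.hom.left, hθ, ← Category.assoc,
      pullback.lift_snd, Category.id_comp]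
  refine ⟨φ, hφ, ⟨?_⟩⟩
  haveI : Etale φ := by
    haveI : Etale (φ ≫ v) := hφ.symm ▸ inferInstance
    exact Etale.of_comp φ v
  haveI : IsFinite φ := by
    haveI : IsFinite (φ ≫ v) := hφ.symm ▸ inferInstance
    exact IsFinite.of_comp φ v
  haveI := hV
  refine Set.range_eq_univ.1 (IsClopen.eq_univ ⟨φ.isClosedMap.isClosed_range, φ.isOpenMap.isOpen_range⟩ ⟨φ.base u', u', rfl⟩)

end Groth.Agent.AbhAbs
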