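import Mathlib
import Groth.Agent.AbhAbs.Kummer

/-!
# The monomial basis of a Kummer algebra
-/

set_option autoImplicit false
set_option linter.style.haveILetI false

universe u

noncomputable section

namespace Groth.Agent.AbhAbs

theorem exists_rootAlg {A : Type u} [CommRing A] (M : ℕ) (hM : 1 ≤ M) : ∀ (r : ℕ) (f : Fin r → A),
    ∃ (B : Type u) (_ : CommRing B) (_ : Algebra A B) (t : Fin r → B),
      (∀ i, t i ^ M = algebraMap A B (f i)) ∧
      LinearIndependent A (fun b : Fin r → Fin M => ∏ i, t i ^ (b i : ℕ)) := by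
  intro r
  induction r with
  | zero =>
    intro f
    refine ⟨A, inferInstance, Algebra.id A, fun i => i.elim0, fun i => i.elim0, ?_⟩
    rw [Fintype.linearIndependent_iff]
    intro g hg b
    rw [Fintype.sum_unique] at hg
    simpa [Subsingleton.elim b default] using hg
  | succ r ih =>
    intro f
    obtain ⟨B, _, _, t, ht, hli⟩ := ih (fun i => f i.succ)
    let p : Polynomial B := Polynomial.X ^ M - Polynomial.C (algebraMap A B (f 0))
    have hp : p.Monic := Polynomial.monic_X_pow_sub_C _ (by omega)
    have hroot : ∀ c : Fin M → B, ∑ k, AdjoinRoot.of p (c k) * AdjoinRoot.root p ^ (k : ℕ) = 0 → ∀ k, c k = 0 := by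
      intro c hc k
      rcases subsingleton_or_nontrivial B with hB | hB
      · exact Subsingleton.elim _ _
      let q : Polynomial B := ∑ k, Polynomial.C (c k) * Polynomial.X ^ (k : ℕ)
      have hq : AdjoinRoot.mk p q = 0 := by simpa [q] using hc
      rw [AdjoinRoot.mk_eq_zero, ← Polynomial.modByMonic_eq_zero_iff_dvd hp,
        (Polynomial.modByMonic_eq_self_iff hp).2 ?_] at hq
      · have := congrArg (fun s : Polynomial B => s.coeff (k : ℕ)) hq
        simpa [q, Polynomial.finset_sum_coeff, Polynomial.coeff_C_mul_X_pow, ← Fin.ext_iff] using this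
      · rw [Polynomial.degree_X_pow_sub_C (by omega : 0 < M)]
        refine lt_of_le_of_lt (Polynomial.degree_sum_le _ _) ((Finset.sup_lt_iff (WithBot.bot_lt_coe M)).2 fun j _ => ?_)
        exact lt_of_le_of_lt (Polynomial.degree_C_mul_X_pow_le _ _) (WithBot.coe_lt_coe.2 j.2)
    refine ⟨AdjoinRoot p, inferInstance, inferInstance,
      Fin.cons (AdjoinRoot.root p) (fun i => AdjoinRoot.of p (t i)), fun i => ?_, ?_⟩
    · refine Fin.cases ?_ (fun j => ?_) i
      · rw [Fin.cons_zero]
        have := AdjoinRoot.eval₂_root p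
        rw [Polynomial.eval₂_sub, Polynomial.eval₂_X_pow, Polynomial.eval₂_C, sub_eq_zero] at this
        rw [AdjoinRoot.algebraMap_eq']
        exact this
      · rw [Fin.cons_succ, ← map_pow, ht j, AdjoinRoot.algebraMap_eq']
        rfl
    · rw [Fintype.linearIndependent_iff]
      intro g hg b
      let c : Fin M → B := fun k => ∑ b' : Fin r → Fin M, g (Fin.cons k b') • ∏ i, t i ^ (b' i : ℕ)
      have h1 : ∑ k, AdjoinRoot.of p (c k) * AdjoinRoot.root p ^ (k : ℕ) = 0 := by
        rw [← hg, ← (Fin.consEquiv fun _ : Fin (r + 1) => Fin M).sum_comp, Fintype.sum_prod_type]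
        refine Finset.sum_congr rfl fun k _ => ?_
        simp only [c, map_sum, Finset.sum_mul]
        refine Finset.sum_congr rfl fun b' _ => ?_
        show _ = g (Fin.cons k b') • _
        rw [Fin.prod_univ_succ]
        simp only [Algebra.smul_def, Fin.consEquiv_apply, Fin.cons_zero, Fin.cons_succ, map_mul, map_prod, map_pow,
          AdjoinRoot.algebraMap_eq', RingHom.comp_apply]
        ring
      have h2 := Fintype.linearIndependent_iff.1 hli _ (hroot c h1 (b 0)) (Fin.tail b)
      rwa [Fin.cons_self_tail] at h2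

variable {A : Type u} [CommRing A] {r : ℕ} (f : Fin r → A) {M : ℕ}

/-- The monomials in a Kummer algebra. -/
def mono (M : ℕ) (a : Fin r → ℕ) : KR f M := ∏ i, RGLib.Kummer.T f (fun _ => M) i ^ a i

theorem mono_add (a b : Fin r → ℕ) : mono f M (a + b) = mono f M a * mono f M b := by
  simp only [mono, Pi.add_apply, pow_add, Finset.prod_mul_distrib]

theorem mono_zero : mono f M 0 = 1 := by simp [mono]

theorem mono_single (i : Fin r) (k : ℕ) :
    mono f M (Pi.single i k) = RGLib.Kummer.T f (fun _ => M) i ^ k := by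
  classical
  rw [mono, Finset.prod_eq_single i]
  · rw [Pi.single_eq_same]
  · intro j _ hj
    rw [Pi.single_eq_of_ne hj, pow_zero]
  · simp

theorem mono_reduce (a : Fin r → ℕ) :
    mono f M a = algebraMap A (KR f M) (∏ i, f i ^ (a i / M)) * mono f M (fun i => a i % M) := by
  simp only [mono, map_prod, map_pow, ← Finset.prod_mul_distrib]
  refine Finset.prod_congr rfl fun i _ => ?_
  conv_lhs => rw [← Nat.div_add_mod (a i) M, pow_add, pow_mul, RGLib.Kummer.T_pow f (fun _ => M) i]

/-- The monomial basis. -/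
theorem exists_monBasis (hM : 1 ≤ M) :
    ∃ bas : Module.Basis (Fin r → Fin M) A (KR f M), ∀ b, bas b = mono f M (fun i => (b i : ℕ)) := by
  obtain ⟨B, _, _, t, ht, hli⟩ := exists_rootAlg M hM r f
  obtain ⟨g, hg⟩ := (RGLib.Kummer.existsUnique_hom f (fun _ => M) t ht).exists
  let v : (Fin r → Fin M) → KR f M := fun b => mono f M (fun i => (b i : ℕ))
  have hv : LinearIndependent A v := by
    refine LinearIndependent.of_comp g.toLinearMap ?_
    have : (g.toLinearMap ∘ v) = fun b : Fin r → Fin M => ∏ i, t i ^ (b i : ℕ) := by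
      funext b
      show g (mono f M _) = _
      simp [mono, hg]
    rwa [this]
  have hspan : ⊤ ≤ Submodule.span A (Set.range v) := by
    rw [← Algebra.top_toSubmodule, ← RGLib.Kummer.adjoin_T f (fun _ => M), Algebra.adjoin_eq_span]
    refine Submodule.span_le.2 fun x hx => ?_
    obtain ⟨a, rfl⟩ : ∃ a, mono f M a = x := by
      induction hx using Submonoid.closure_induction with
      | mem y hy =>
        obtain ⟨i, rfl⟩ := hy
        exact ⟨Pi.single i 1, by rw [mono_single, pow_one]⟩
      | one => exact ⟨0, mono_zero f⟩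
      | mul y z _ _ hy hz =>
        obtain ⟨a, rfl⟩ := hy
        obtain ⟨b, rfl⟩ := hz
        exact ⟨a + b, mono_add f a b⟩
    rw [mono_reduce, ← Algebra.smul_def]
    exact Submodule.smul_mem _ _ (Submodule.subset_span ⟨fun i => ⟨a i % M, Nat.mod_lt _ (by omega)⟩, rfl⟩)
  exact ⟨Module.Basis.mk hv hspan, fun b => Module.Basis.mk_apply hv hspan b⟩

/-- Coordinates of monomials. -/
theorem repr_mono (hM : 1 ≤ M) (bas : Module.Basis (Fin r → Fin M) A (KR f M))
    (hbas : ∀ b, bas b = mono f M (fun i => (b i : ℕ))) (a : Fin r → ℕ) (b : Fin r → Fin M) :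
    bas.repr (mono f M a) b = if (fun i => a i % M) = (fun i => (b i : ℕ)) then ∏ i, f i ^ (a i / M) else 0 := by
  classical
  let a' : Fin r → Fin M := fun i => ⟨a i % M, Nat.mod_lt _ (by omega)⟩
  rw [mono_reduce, ← Algebra.smul_def, map_smul, Finsupp.smul_apply,
    show mono f M (fun i => a i % M) = bas a' from (hbas a').symm, Module.Basis.repr_self, Finsupp.single_apply]
  split_ifs with h1 h2 h2
  · simp
  · exact absurd (funext fun i => congrArg (fun c : Fin r → Fin M => (c i : ℕ)) h1) h2
  · exact absurd (funext fun i => Fin.ext (congrFun h2 i)) h1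
  · simp

end Groth.Agent.AbhAbs
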