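import Mathlib
import Groth.Agent.AbhAbs.MonBasis
import Groth.Agent.AbhAbs.Params
import Groth.Agent.EGA41Lib.IntDim
import Groth.Agent.Hensel.IntegralStrict

/-!
# Regular monomial subrings of Kummer algebras
-/

set_option autoImplicit false
set_option linter.style.haveILetI false
set_option backward.isDefEq.respectTransparency false
set_option maxHeartbeats 1000000

universe u

open IsLocalRing

noncomputable section

namespace Groth.Agent.AbhAbs

variable {A : Type u} [CommRing A] {r : ℕ} {f : Fin r → A} {M : ℕ}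

theorem exists_index (hM : 1 ≤ M) (P : Subalgebra A (KR f M))
    (hdiv : ∀ a c, mono f M (a + c) ∈ P → mono f M a ∈ P → mono f M c ∈ P) (i : Fin r) :
    ∃ d, 0 < d ∧ d ∣ M ∧ ∀ k, mono f M (Pi.single i k) ∈ P ↔ d ∣ k := by
  classical
  have hMP : mono f M (Pi.single i M) ∈ P := by
    rw [mono_single, RGLib.Kummer.T_pow f (fun _ => M) i]
    exact P.algebraMap_mem _
  have hex : ∃ d, 0 < d ∧ mono f M (Pi.single i d) ∈ P := ⟨M, by omega, hMP⟩
  obtain ⟨hd0, hdP⟩ := Nat.find_spec hex
  set d := Nat.find hex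
  have hq : ∀ q, mono f M (Pi.single i (d * q)) ∈ P := fun q => by
    rw [mono_single, pow_mul, ← mono_single f i d]
    exact P.pow_mem hdP q
  have hiff : ∀ k, mono f M (Pi.single i k) ∈ P ↔ d ∣ k := by
    refine fun k => ⟨fun hk => ?_, fun ⟨q, hq'⟩ => hq' ▸ hq q⟩
    refine Nat.dvd_of_mod_eq_zero (Nat.eq_zero_of_not_pos fun hpos => ?_)
    refine Nat.find_min hex (Nat.mod_lt k hd0) ⟨hpos, hdiv (Pi.single i (d * (k / d))) _ ?_ (hq _)⟩
    rwa [← Pi.single_add, Nat.div_add_mod]
  exact ⟨d, hd0, (hiff M).1 hMP, hiff⟩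

theorem repr_mul (bas : Module.Basis (Fin r → Fin M) A (KR f M))
    (hbas : ∀ b, bas b = mono f M (fun i => (b i : ℕ))) (z w : KR f M) (b₀ : Fin r → Fin M) :
    bas.repr (z * w) b₀ = ∑ b, ∑ c, bas.repr z b * bas.repr w c *
      bas.repr (mono f M ((fun i => (b i : ℕ)) + fun i => (c i : ℕ))) b₀ := by
  conv_lhs => rw [← bas.sum_repr z, ← bas.sum_repr w]
  simp only [Finset.sum_mul, Finset.mul_sum, smul_mul_smul_comm, hbas, ← mono_add, map_sum, map_smul,
    Finsupp.finsetSum_apply, Finsupp.smul_apply, smul_eq_mul]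
  rw [Finset.sum_comm]

theorem smul_KR (c : A) (x : KR f M) : c • x = algebraMap A (KR f M) c * x := Algebra.smul_def c x

variable [IsRegularLocalRing A] [IsDomain A]

theorem mem_maximalIdeal_mono [IsLocalRing (KR f M)] (hT : ∀ i, RGLib.Kummer.T f (fun _ => M) i ∈ maximalIdeal (KR f M))
    {a : Fin r → ℕ} (ha : a ≠ 0) : mono f M a ∈ maximalIdeal (KR f M) := by
  obtain ⟨i, hi⟩ := Function.ne_iff.1 ha
  refine Ideal.mem_of_dvd _ (Finset.dvd_prod_of_mem _ (Finset.mem_univ i)) ?_
  exact Ideal.pow_mem_of_mem _ (hT i) _ (Nat.pos_of_ne_zero hi)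

/-- The coordinate at `1` of an element of the maximal ideal. -/
theorem repr_zero_mem [IsLocalRing (KR f M)] [IsLocalHom (algebraMap A (KR f M))]
    (hT : ∀ i, RGLib.Kummer.T f (fun _ => M) i ∈ maximalIdeal (KR f M))
    (bas : Module.Basis (Fin r → Fin M) A (KR f M))
    (hbas : ∀ b, bas b = mono f M (fun i => (b i : ℕ))) {z : KR f M} (hz : z ∈ maximalIdeal (KR f M))
    (b₀ : Fin r → Fin M) (hb₀ : ∀ i, (b₀ i : ℕ) = 0) : bas.repr z b₀ ∈ maximalIdeal A := by
  classical
  have h1 : z - bas.repr z b₀ • bas b₀ ∈ maximalIdeal (KR f M) := by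
    conv => arg 2; arg 1; rw [← bas.sum_repr z]
    rw [← Finset.sum_erase_eq_sub (Finset.mem_univ b₀)]
    refine Ideal.sum_mem _ fun b hb => ?_
    rw [smul_KR, hbas]
    refine Ideal.mul_mem_left _ _ (mem_maximalIdeal_mono hT fun h => (Finset.mem_erase.1 hb).1 ?_)
    exact funext fun i => Fin.ext ((congrFun h i).trans (hb₀ i).symm)
  have h2 : algebraMap A (KR f M) (bas.repr z b₀) ∈ maximalIdeal (KR f M) := by
    have h3 := sub_mem hz h1
    rwa [sub_sub_cancel, hbas, show (fun i => (b₀ i : ℕ)) = 0 from funext hb₀, mono_zero, smul_KR, mul_one] at h3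
  intro hu
  exact (mem_maximalIdeal _).1 h2 (hu.map _)

/-- A regular monomial subring of a Kummer algebra is the product of its coordinate monomial subrings. -/
theorem exists_product (hf : IsParams f) (hM : 1 ≤ M) (bas : Module.Basis (Fin r → Fin M) A (KR f M))
    (hbas : ∀ b, bas b = mono f M (fun i => (b i : ℕ))) (P : Subalgebra A (KR f M)) (hP : IsRegularLocalRing P)
    (hcoef : ∀ z ∈ P, ∀ b, bas.repr z b ≠ 0 → mono f M (fun i => (b i : ℕ)) ∈ P)
    (hdiv : ∀ a c, mono f M (a + c) ∈ P → mono f M a ∈ P → mono f M c ∈ P) :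
    ∃ d : Fin r → ℕ, (∀ i, d i ∣ M) ∧
      P = Algebra.adjoin A (Set.range fun i => RGLib.Kummer.T f (fun _ => M) i ^ d i) := by
  classical
  haveI := hP
  haveI := KR.isRegularLocalRing hf hM
  haveI := RGLib.Kummer.finite f (fun _ => M) (fun _ => hM)
  obtain ⟨hT, -⟩ := linearIndependent_roots f hf.mem hf.li (fun _ => M) (fun _ => hM)
  haveI : IsLocalHom (algebraMap A (KR f M)) := Hensel.isLocalHom_of_isIntegral_local A (KR f M)
  choose d hd0 hdM hdiff using exists_index hM P hdiv
  let S : (Fin r → ℕ) → Prop := fun a => mono f M a ∈ P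
  have hdP : ∀ i, S (Pi.single i (d i)) := fun i => (hdiff i _).2 dvd_rfl
  refine ⟨d, hdM, ?_⟩
  suffices key : ∀ a, S a → ∀ i, d i ∣ a i by
    refine le_antisymm (fun z hz => ?_) (Algebra.adjoin_le ?_)
    · rw [← bas.sum_repr z]
      refine sum_mem fun b _ => ?_
      rcases eq_or_ne (bas.repr z b) 0 with h | h
      · rw [h, zero_smul]; exact zero_mem _
      refine Subalgebra.smul_mem _ ?_ _
      rw [hbas]
      refine prod_mem fun i _ => ?_
      obtain ⟨q, hq⟩ := key _ (hcoef z hz b h) i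
      beta_reduce at hq ⊢
      rw [hq, pow_mul]
      exact pow_mem (Algebra.subset_adjoin (R := A)
        (show _ ∈ Set.range fun i => RGLib.Kummer.T f (fun _ => M) i ^ d i from ⟨i, rfl⟩)) q
    · rintro _ ⟨i, rfl⟩
      have := hdP i
      rwa [show S _ = (mono f M _ ∈ P) from rfl, mono_single] at this
  suffices key : ∀ (N : ℕ) (a : Fin r → ℕ), ∑ i, a i = N → S a → ∀ i, d i ∣ a i from fun a => key _ a rfl
  intro N
  induction N using Nat.strong_induction_on with
  | h N ih =>
  intro a haN haS i₀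
  by_contra hi₀
  have hsmall : ∀ b : Fin r → ℕ, (∀ i, b i ≤ a i) → b ≠ a → S b → ∀ i, d i ∣ b i := by
    intro b hb hne hbS
    refine ih _ ?_ b rfl hbS
    rw [← haN]
    obtain ⟨i, hi⟩ := Function.ne_iff.1 hne
    exact Finset.sum_lt_sum (fun j _ => hb j) ⟨i, Finset.mem_univ i, lt_of_le_of_ne (hb i) hi⟩
  -- the element is indecomposable
  have hindec : ∀ b c : Fin r → ℕ, b + c = a → S b → S c → b ≠ 0 → c ≠ 0 → False := by
    intro b c hbc hb hc hb0 hc0
    have h1 := hsmall b (fun i => by rw [← hbc]; simp) (fun h => hc0 (by subst h; simpa using hbc)) hb i₀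
    have h2 := hsmall c (fun i => by rw [← hbc]; simp) (fun h => hb0 (by subst h; simpa using hbc)) hc i₀
    exact hi₀ (hbc ▸ dvd_add h1 h2)
  -- the element lies in the box
  have hlt : ∀ i, a i < M := by
    intro i
    by_contra hle
    let c := a - Pi.single i M
    have hca : Pi.single i M + c = a := by
      refine funext fun j => ?_
      rcases eq_or_ne j i with rfl | hj
      · simp only [c, Pi.add_apply, Pi.sub_apply, Pi.single_eq_same]; omega
      · simp [c, Pi.single_eq_of_ne hj]
    have hMS : S (Pi.single i M) := (hdiff i M).2 (hdM i)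
    have hne : c ≠ a := fun h => by
      have := congrFun h i
      simp only [c, Pi.sub_apply, Pi.single_eq_same] at this
      omega
    have hc := hsmall c (fun j => by simp [c]) hne (hdiv _ c (hca ▸ haS) hMS) i₀
    refine hi₀ (hca ▸ dvd_add ?_ hc)
    rcases eq_or_ne i₀ i with rfl | hj
    · rw [Pi.single_eq_same]; exact hdM _
    · rw [Pi.single_eq_of_ne hj]; exact dvd_zero _
  have ha0 : a ≠ 0 := fun h => hi₀ (by rw [h]; exact dvd_zero _)
  -- the coordinates
  let J := {i : Fin r // d i < M}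
  let o : Fin r → Fin M := fun _ => ⟨0, by omega⟩
  let ba : Fin r → Fin M := fun i => ⟨a i, hlt i⟩
  let bd : J → Fin r → Fin M := fun j => Function.update o j.1 ⟨d j.1, j.2⟩
  have hbd : ∀ j : J, (fun i => (bd j i : ℕ)) = Pi.single j.1 (d j.1) := fun j => funext fun i => by
    rcases eq_or_ne i j.1 with rfl | hi
    · simp [bd]
    · simp [bd, o, Function.update_of_ne hi, Pi.single_eq_of_ne hi]
  have hind_d : ∀ (j : J) (b c : Fin r → ℕ), b + c = Pi.single j.1 (d j.1) → S b → S c → b ≠ 0 → c ≠ 0 → False := by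
    intro j b c hbc hb hc hb0 hc0
    have key : ∀ x y : Fin r → ℕ, x + y = Pi.single j.1 (d j.1) → x = Pi.single j.1 (x j.1) := fun x y h =>
      funext fun i => by
        rcases eq_or_ne i j.1 with rfl | hi
        · rw [Pi.single_eq_same]
        · have := congrFun h i
          rw [Pi.single_eq_of_ne hi] at this ⊢
          simp only [Pi.add_apply] at this
          omega
    have hb' := key b c hbc
    have hc' := key c b ((add_comm c b).trans hbc)
    have hsum := congrFun hbc j.1
    rw [Pi.single_eq_same, Pi.add_apply] at hsum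
    have h1 := (hdiff j.1 _).1 (show mono f M (Pi.single j.1 (b j.1)) ∈ P from hb' ▸ hb)
    have hbp : 0 < b j.1 := Nat.pos_of_ne_zero fun h => hb0 (by rw [hb', h, Pi.single_zero])
    have hcp : 0 < c j.1 := Nat.pos_of_ne_zero fun h => hc0 (by rw [hc', h, Pi.single_zero])
    have := Nat.le_of_dvd hbp h1
    omega
  -- the target
  let v : J → CotangentSpace A := fun j => (maximalIdeal A).toCotangent ⟨f j.1, hf.mem j.1⟩
  let V := CotangentSpace A ⧸ Submodule.span (ResidueField A) (Set.range v)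
  let κ := ResidueField A
  let mP : Submodule A P := (maximalIdeal P).restrictScalars A
  haveI : Algebra.IsIntegral P (KR f M) := Algebra.IsIntegral.tower_top (R := A)
  haveI : IsLocalHom (algebraMap P (KR f M)) := Hensel.isLocalHom_of_isIntegral_local P (KR f M)
  have hmK : ∀ z : P, z ∈ maximalIdeal P → (z : KR f M) ∈ maximalIdeal (KR f M) := fun z hz =>
    (mem_maximalIdeal _).2 fun hu => (mem_maximalIdeal _).1 hz (isUnit_of_map_unit (algebraMap P (KR f M)) z hu)
  have hPmem : ∀ w : P, (w : KR f M) ∈ maximalIdeal (KR f M) → w ∈ maximalIdeal P := fun w hw hu =>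
    (mem_maximalIdeal _).1 hw (hu.map (algebraMap P (KR f M)))
  let cf : (Fin r → Fin M) → (mP →ₗ[A] A) := fun b =>
    ((Finsupp.lapply b).comp bas.repr.toLinearMap).comp (P.val.toLinearMap.comp mP.subtype)
  let c0 : mP →ₗ[A] maximalIdeal A := (cf o).codRestrict (maximalIdeal A) fun z =>
    repr_zero_mem hT bas hbas (hmK _ z.2) o fun _ => rfl
  let Ψ : mP →ₗ[A] V × (J → κ) × κ :=
    LinearMap.prod (((Submodule.mkQ (Submodule.span κ (Set.range v))).restrictScalars A).comp
      ((maximalIdeal A).toCotangent.comp c0))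
      (LinearMap.prod (LinearMap.pi fun j => (Algebra.linearMap A κ).comp (cf (bd j)))
        ((Algebra.linearMap A κ).comp (cf ba)))
  have hcfS : ∀ (z : P) b, bas.repr (z : KR f M) b ≠ 0 → S (fun i => (b i : ℕ)) := fun z b => hcoef _ z.2 b
  -- indecomposable coordinates of products
  have hind : ∀ (b₀ : Fin r → Fin M), (∀ b c : Fin r → ℕ, b + c = (fun i => (b₀ i : ℕ)) → S b → S c →
      b ≠ 0 → c ≠ 0 → False) → ∀ z w : mP, bas.repr ((z.1 * w.1 : P) : KR f M) b₀ ∈ maximalIdeal A := by
    intro b₀ hb₀ z w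
    rw [Subalgebra.coe_mul, repr_mul bas hbas]
    refine Ideal.sum_mem _ fun b _ => Ideal.sum_mem _ fun c _ => ?_
    by_cases hb : (fun i => (b i : ℕ)) = 0
    · refine Ideal.mul_mem_right _ _ (Ideal.mul_mem_right _ _ ?_)
      exact repr_zero_mem hT bas hbas (hmK _ z.2) b (congrFun hb)
    by_cases hc : (fun i => (c i : ℕ)) = 0
    · refine Ideal.mul_mem_right _ _ (Ideal.mul_mem_left _ _ ?_)
      exact repr_zero_mem hT bas hbas (hmK _ w.2) c (congrFun hc)
    by_cases hb' : bas.repr (z.1 : KR f M) b = 0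
    · rw [hb', zero_mul, zero_mul]; exact zero_mem _
    by_cases hc' : bas.repr (w.1 : KR f M) c = 0
    · rw [hc', mul_zero, zero_mul]; exact zero_mem _
    refine Ideal.mul_mem_left _ _ ?_
    rw [repr_mono f hM bas hbas]
    split_ifs with h
    · by_cases hall : ∀ i, (b i : ℕ) + (c i : ℕ) < M
      · refine (hb₀ _ _ (funext fun i => ?_) (hcfS _ b hb') (hcfS _ c hc') hb hc).elim
        have h1 := congrFun h i
        simp only [Pi.add_apply] at h1 ⊢
        rwa [Nat.mod_eq_of_lt (hall i)] at h1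
      · push_neg at hall
        obtain ⟨i, hi⟩ := hall
        refine Ideal.mem_of_dvd _ (Finset.dvd_prod_of_mem _ (Finset.mem_univ i)) ?_
        exact Ideal.pow_mem_of_mem _ (hf.mem i) _ (Nat.div_pos hi (by omega))
    · exact zero_mem _
  -- the constant coordinate of products
  let I₀ : Submodule A A := (maximalIdeal A * maximalIdeal A) ⊔ Ideal.span (Set.range fun j : J => f j.1)
  have hconst : ∀ z w : mP, bas.repr ((z.1 * w.1 : P) : KR f M) o ∈ I₀ := by
    intro z w
    rw [Subalgebra.coe_mul, repr_mul bas hbas]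
    refine sum_mem fun b _ => sum_mem fun c _ => ?_
    rw [repr_mono f hM bas hbas]
    split_ifs with h
    swap
    · rw [mul_zero]; exact zero_mem _
    have h' : ∀ i, ((b i : ℕ) + (c i : ℕ)) % M = 0 := fun i => congrFun h i
    by_cases hb : (fun i => (b i : ℕ)) = 0
    · have hc : ∀ i, (c i : ℕ) = 0 := fun i => by
        have h1 := h' i
        rw [show (b i : ℕ) = 0 from congrFun hb i, zero_add, Nat.mod_eq_of_lt (c i).2] at h1
        exact h1
      refine Submodule.mem_sup_left (Ideal.mul_mem_right _ _ (Ideal.mul_mem_mul ?_ ?_))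
      · exact repr_zero_mem hT bas hbas (hmK _ z.2) b (congrFun hb)
      · exact repr_zero_mem hT bas hbas (hmK _ w.2) c hc
    by_cases hb' : bas.repr (z.1 : KR f M) b = 0
    · rw [hb', zero_mul, zero_mul]; exact zero_mem _
    obtain ⟨i, hi⟩ := Function.ne_iff.1 hb
    have hbi : 0 < (b i : ℕ) := Nat.pos_of_ne_zero hi
    have hq : ∀ k, 0 < (b k : ℕ) → ((b k : ℕ) + (c k : ℕ)) / M ≠ 0 := fun k hk hq0 => by
      have := Nat.div_add_mod ((b k : ℕ) + (c k : ℕ)) M
      rw [hq0, h' k] at this
      omega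
    by_cases hsingle : ∀ k, k ≠ i → (b k : ℕ) = 0
    · have hbs : (fun k => (b k : ℕ)) = Pi.single i (b i : ℕ) := funext fun k => by
        rcases eq_or_ne k i with rfl | hk
        · rw [Pi.single_eq_same]
        · rw [Pi.single_eq_of_ne hk, hsingle k hk]
      have h1 := (hdiff i _).1 (hbs ▸ hcfS _ b hb' : mono f M (Pi.single i (b i : ℕ)) ∈ P)
      have hJ : d i < M := lt_of_le_of_lt (Nat.le_of_dvd hbi h1) (b i).2
      refine Submodule.mem_sup_right (Ideal.mul_mem_left _ _ (Ideal.mem_of_dvd _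
        (Finset.dvd_prod_of_mem _ (Finset.mem_univ i)) ?_))
      exact Ideal.pow_mem_of_mem _ (Ideal.subset_span (show f i ∈ Set.range fun j : J => f j.1 from ⟨⟨i, hJ⟩, rfl⟩)) _ (Nat.pos_of_ne_zero (hq i hbi))
    · push_neg at hsingle
      obtain ⟨k, hki, hk⟩ := hsingle
      refine Submodule.mem_sup_left (Ideal.mul_mem_left _ _ ?_)
      rw [← Finset.mul_prod_erase _ _ (Finset.mem_univ i),
        ← Finset.mul_prod_erase _ _ (Finset.mem_erase.2 ⟨hki, Finset.mem_univ k⟩), ← mul_assoc]
      exact Ideal.mul_mem_right _ _ (Ideal.mul_mem_mul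
        (Ideal.pow_mem_of_mem _ (hf.mem i) _ (Nat.pos_of_ne_zero (hq i hbi)))
        (Ideal.pow_mem_of_mem _ (hf.mem k) _ (Nat.pos_of_ne_zero (hq k (Nat.pos_of_ne_zero hk)))))
  -- the map kills products
  have hkill : ∀ z w : mP, Ψ ⟨z.1 * w.1, (maximalIdeal P).mul_mem_right _ z.2⟩ = 0 := by
    intro z w
    refine Prod.ext ?_ (Prod.ext (funext fun j => ?_) ?_)
    · obtain ⟨x, hx, y, hy, hxy⟩ := Submodule.mem_sup.1 (hconst z w)
      have hxm : x ∈ maximalIdeal A := Ideal.mul_le_right hx
      have hym : y ∈ maximalIdeal A := Ideal.span_le.2 (by rintro _ ⟨j, rfl⟩; exact hf.mem j.1) hy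
      have hc : c0 ⟨z.1 * w.1, (maximalIdeal P).mul_mem_right _ z.2⟩ = ⟨x, hxm⟩ + ⟨y, hym⟩ := Subtype.ext hxy.symm
      show Submodule.Quotient.mk ((maximalIdeal A).toCotangent (c0 _)) = 0
      rw [hc, map_add, (maximalIdeal A).toCotangent_eq_zero ⟨x, hxm⟩ |>.2 (by rw [pow_two]; exact hx), zero_add,
        Submodule.Quotient.mk_eq_zero]
      obtain ⟨g, rfl⟩ := Ideal.mem_span_range_iff_exists_fun.1 hy
      have : (⟨∑ j, g j * f j.1, hym⟩ : maximalIdeal A) = ∑ j : J, g j • ⟨f j.1, hf.mem j.1⟩ := by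
        refine Subtype.ext ?_
        simp
      rw [this, map_sum]
      refine sum_mem fun j _ => ?_
      rw [map_smul, ← algebraMap_smul κ (g j)]
      exact Submodule.smul_mem _ _ (Submodule.subset_span ⟨j, rfl⟩)
    · exact (residue_eq_zero_iff _).2 (hind (bd j) (fun b c h => hind_d j b c (h.trans (hbd j))) z w)
    · exact (residue_eq_zero_iff _).2 (hind ba hindec z w)
  -- generators
  obtain ⟨G, hGcard, hGspan⟩ :=
    Submodule.FG.exists_span_finset_card_eq_spanFinrank (IsNoetherian.noetherian (maximalIdeal P))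
  have hGmem : ∀ x : P, x ∈ Submodule.span P (G : Set P) → x ∈ mP := fun x hx =>
    show x ∈ maximalIdeal P from hGspan ▸ hx
  let g : G → mP := fun x => ⟨x.1, hGmem _ (Submodule.subset_span x.2)⟩
  have hA : ∀ p : P, ∃ α : A, p - algebraMap A P α ∈ maximalIdeal P := by
    intro p
    refine ⟨bas.repr (p : KR f M) o, hPmem _ ?_⟩
    show (p : KR f M) - algebraMap A (KR f M) _ ∈ maximalIdeal (KR f M)
    conv => arg 2; arg 1; rw [← bas.sum_repr (p : KR f M)]
    rw [show algebraMap A (KR f M) (bas.repr (p : KR f M) o) = bas.repr (p : KR f M) o • bas o by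
        rw [hbas, show (fun i => (o i : ℕ)) = 0 from rfl, mono_zero, smul_KR, mul_one],
      ← Finset.sum_erase_eq_sub (Finset.mem_univ o)]
    refine Ideal.sum_mem _ fun b hb => ?_
    rw [smul_KR, hbas]
    exact Ideal.mul_mem_left _ _ (mem_maximalIdeal_mono hT fun h =>
      (Finset.mem_erase.1 hb).1 (funext fun i => Fin.ext (congrFun h i)))
  have hrange : ∀ z : mP, Ψ z ∈ Submodule.span κ (Set.range fun x : G => Ψ (g x)) := by
    rintro ⟨z, hz⟩
    have hz' : z ∈ Submodule.span P (G : Set P) := hGspan.symm ▸ hz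
    induction hz' using Submodule.span_induction with
    | mem x hx => exact Submodule.subset_span ⟨⟨x, hx⟩, rfl⟩
    | zero =>
      rw [show (⟨0, hz⟩ : mP) = 0 from rfl, map_zero]
      exact zero_mem _
    | add x y hx hy ihx ihy =>
      have hxm : x ∈ mP := hGmem _ hx
      have hym : y ∈ mP := hGmem _ hy
      rw [show (⟨x + y, hz⟩ : mP) = ⟨x, hxm⟩ + ⟨y, hym⟩ from rfl, map_add]
      exact add_mem (ihx hxm) (ihy hym)
    | smul p x hx ihx =>
      have hxm : x ∈ mP := hGmem _ hx
      obtain ⟨α, hα⟩ := hA p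
      have : (⟨p • x, hz⟩ : mP) = α • ⟨x, hxm⟩ +
          ⟨(p - algebraMap A P α) * x, (maximalIdeal P).mul_mem_right _ hα⟩ := by
        refine Subtype.ext ?_
        show p • x = α • x + _
        rw [Algebra.smul_def, smul_eq_mul]
        ring
      rw [this, map_add, map_smul, hkill ⟨_, hα⟩ ⟨x, hxm⟩, add_zero, ← algebraMap_smul κ α]
      exact Submodule.smul_mem _ _ (ihx hxm)
  -- surjectivity
  have hmem_ba : bas ba ∈ P := (hbas ba).symm ▸ haS
  have hmem_bd : ∀ j, bas (bd j) ∈ P := fun j => by rw [hbas, hbd]; exact hdP j.1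
  have hne_bd : ∀ j, bd j ≠ o := fun j h => by
    have h1 := congrFun (congrArg (fun (b : Fin r → Fin M) i => (b i : ℕ)) h) j.1
    simp [bd, o] at h1
    have := hd0 j.1
    omega
  have hne_ba : ba ≠ o := fun h => ha0 (congrArg (fun (b : Fin r → Fin M) i => (b i : ℕ)) h)
  have hne : ∀ j, bd j ≠ ba := fun j h => by
    have h1 := congrArg (fun (b : Fin r → Fin M) i => (b i : ℕ)) h
    rw [show (fun i => (bd j i : ℕ)) = _ from hbd j] at h1
    have : a = Pi.single j.1 (d j.1) := h1.symm
    refine hi₀ (this ▸ ?_)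
    rcases eq_or_ne i₀ j.1 with rfl | hi
    · rw [Pi.single_eq_same]
    · rw [Pi.single_eq_of_ne hi]; exact dvd_zero _
  have hinj_bd : Function.Injective bd := fun j k h => by
    by_contra hjk
    have h1 := congrFun (congrArg (fun (b : Fin r → Fin M) i => (b i : ℕ)) h) j.1
    simp [bd, o, Function.update_of_ne (fun e : j.1 = k.1 => hjk (Subtype.ext e))] at h1
    have := hd0 j.1
    omega
  have hsurj : Function.Surjective Ψ := by
    rintro ⟨qv, e, e0⟩
    obtain ⟨tc, rfl⟩ := Submodule.Quotient.mk_surjective _ qv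
    obtain ⟨x, rfl⟩ := (maximalIdeal A).toCotangent_surjective tc
    choose ee hee using fun j => residue_surjective (e j)
    obtain ⟨ee0, rfl⟩ := residue_surjective e0
    let zc : KR f M := x.1 • bas o + ∑ j : J, ee j • bas (bd j) + ee0 • bas ba
    have hzP : zc ∈ P := by
      refine add_mem (add_mem (P.smul_mem ?_ _) (sum_mem fun j _ => P.smul_mem (hmem_bd j) _))
        (P.smul_mem hmem_ba _)
      rw [hbas, show (fun i => (o i : ℕ)) = 0 from rfl, mono_zero]
      exact P.one_mem
    have hnz : ∀ b : Fin r → Fin M, b ≠ o → bas b ∈ maximalIdeal (KR f M) := fun b hb =>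
      (hbas b).symm ▸ mem_maximalIdeal_mono hT fun h => hb (funext fun i => Fin.ext (congrFun h i))
    have hzm : (⟨zc, hzP⟩ : P) ∈ maximalIdeal P := by
      refine hPmem _ (Ideal.add_mem _ (Ideal.add_mem _ ?_ (Ideal.sum_mem _ fun j _ => ?_)) ?_)
      · rw [smul_KR]
        exact Ideal.mul_mem_right _ _
          ((mem_maximalIdeal _).2 fun hu => (mem_maximalIdeal _).1 x.2 (isUnit_of_map_unit (algebraMap A (KR f M)) x.1 hu))
      · rw [smul_KR]; exact Ideal.mul_mem_left _ _ (hnz _ (hne_bd j))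
      · rw [smul_KR]; exact Ideal.mul_mem_left _ _ (hnz _ hne_ba)
    refine ⟨⟨⟨zc, hzP⟩, hzm⟩, ?_⟩
    have hr : ∀ b, bas.repr zc b = (if o = b then x.1 else 0) + (∑ j : J, if bd j = b then ee j else 0) +
        (if ba = b then ee0 else 0) := fun b => by
      simp [zc, Finsupp.single_apply, Finsupp.finsetSum_apply]
    refine Prod.ext ?_ (Prod.ext (funext fun j => ?_) ?_)
    · show Submodule.Quotient.mk ((maximalIdeal A).toCotangent (c0 _)) = Submodule.Quotient.mk _
      refine congrArg _ (congrArg _ (Subtype.ext ?_))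
      show bas.repr zc o = x.1
      rw [hr]
      simp [hne_bd, hne_ba]
    · show residue A (bas.repr zc (bd j)) = e j
      rw [hr, ← hee j]
      simp [(hne_bd j).symm, (hne j).symm, hinj_bd.eq_iff, apply_ite (residue A), map_zero]
      rw [Finset.sum_eq_single j (fun k _ hk => if_neg hk) (fun h => absurd (Finset.mem_univ j) h), if_pos rfl]
    · show residue A (bas.repr zc ba) = residue A ee0
      rw [hr]
      simp [hne_ba.symm, hne]
  have htop : Submodule.span κ (Set.range fun x : G => Ψ (g x)) = ⊤ := eq_top_iff.2 fun y _ => by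
    obtain ⟨z, rfl⟩ := hsurj y
    exact hrange z
  have hle : Module.finrank κ (V × (J → κ) × κ) ≤ G.card := by
    rw [← finrank_top, ← htop, ← Fintype.card_coe]
    exact finrank_range_le_card _
  have hdim : (maximalIdeal P).spanFinrank = Module.finrank κ (CotangentSpace A) := by
    have h1 := IsRegularLocalRing.spanFinrank_maximalIdeal (R := P)
    have h2 := (IsRegularLocalRing.iff_finrank_cotangentSpace (R := A)).1 inferInstance
    have hPinj : Function.Injective (algebraMap A P) := fun x y h =>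
      RGLib.Kummer.injective f (fun _ => M) (fun _ => hM) (congrArg Subtype.val h)
    haveI : Algebra.IsIntegral A P := Algebra.IsIntegral.of_injective P.val Subtype.val_injective
    rw [EGA41Lib.ringKrullDim_eq_of_integral hPinj, ← h2] at h1
    exact_mod_cast h1
  rw [hGcard, hdim, Module.finrank_prod, Module.finrank_prod, Module.finrank_pi, Module.finrank_self,
    ← Submodule.finrank_quotient_add_finrank (Submodule.span κ (Set.range v))] at hle
  have := finrank_range_le_card (R := κ) v
  change Module.finrank κ V + _ ≤ Module.finrank κ V + _ at hle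
  simp only [Set.finrank] at this
  omega

end Groth.Agent.AbhAbs
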