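import Mathlib
import Groth.Prelude.Def_SGA1
import Groth.Prelude.Def_EtRam

/-!
# Tameness along a divisor only depends on the generic fibre
-/

set_option autoImplicit false
set_option linter.style.haveILetI false

universe u

open IsLocalRing

namespace Groth.Agent.AbhAbs

/-- Tame ramification is invariant under isomorphisms of the field. -/
theorem isTamelyRamified_of_ringEquiv {A L L' : Type u} [CommRing A] [IsLocalRing A] [Field L] [Field L']
    (g : A →+* L) (g' : A →+* L') (e : L ≃+* L') (he : e.toRingHom.comp g = g')
    (h : EtRam.IsTamelyRamified A g) : EtRam.IsTamelyRamified A g' := by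
  subst he
  intro V' hV'
  let V := V'.comap e.toRingHom
  letI : Algebra A V' := (RingHom.codRestrict (e.toRingHom.comp g) V' hV'.1).toAlgebra
  intro hloc
  have hcomp : ∀ a, g a ∈ V := fun a => hV'.1 a
  letI algV : Algebra A V := (RingHom.codRestrict g V hcomp).toAlgebra
  let ε : V ≃ₐ[A] V' :=
    { toFun := fun x => ⟨e x.1, x.2⟩
      invFun := fun y => ⟨e.symm y.1, show e (e.symm y.1) ∈ V' by rw [e.apply_symm_apply]; exact y.2⟩
      left_inv := fun x => Subtype.ext (e.symm_apply_apply _)
      right_inv := fun y => Subtype.ext (e.apply_symm_apply _)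
      map_mul' := fun x y => Subtype.ext (map_mul e _ _)
      map_add' := fun x y => Subtype.ext (map_add e _ _)
      commutes' := fun a => Subtype.ext rfl }
  have hlocV : IsLocalHom (algebraMap A V) := ⟨fun a ha => by
    have h1 := ha.map ε
    rw [ε.commutes] at h1
    exact isUnit_of_map_unit (algebraMap A V') a h1⟩
  have hV : EtRam.Dominates A g V := ⟨hcomp, fun a ha => by
    have hu : (algebraMap A V a) ∈ maximalIdeal V := (mem_maximalIdeal _).2 fun hu =>
      (mem_maximalIdeal _).1 ha (isUnit_of_map_unit (algebraMap A V) a hu)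
    exact (V.valuation_lt_one_iff _).1 hu⟩
  obtain ⟨hsep, hidx⟩ := @h V hV hlocV
  refine ⟨?_, fun p hp hchar => ?_⟩
  · haveI := hsep
    haveI : IsLocalHom (ε : V →+* V') := ⟨fun x hx => by
      have h1 := hx.map ε.symm
      rwa [show ε.symm ((ε : V →+* V') x) = x from ε.symm_apply_apply x] at h1⟩
    let ψ : ResidueField V →ₐ[ResidueField A] ResidueField V' :=
      { ResidueField.map (ε : V →+* V') with
        commutes' := fun z => by
          obtain ⟨a, rfl⟩ := residue_surjective z
          show ResidueField.map (ε : V →+* V') (residue V (algebraMap A V a)) = residue V' (algebraMap A V' a)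
          rw [ResidueField.map_residue]
          exact congrArg (residue V') (ε.commutes a) }
    have hψ : Function.Bijective ψ := by
      refine ⟨ψ.toRingHom.injective, fun z => ?_⟩
      obtain ⟨y, rfl⟩ := residue_surjective z
      refine ⟨residue V (ε.symm y), ?_⟩
      show ResidueField.map (ε : V →+* V') (residue V (ε.symm y)) = _
      rw [ResidueField.map_residue]
      exact congrArg (residue V') (ε.apply_symm_apply y)
    exact AlgEquiv.Algebra.isSeparable (AlgEquiv.ofBijective ψ hψ)
  · have h1 := hidx p hp hchar
    have hcm : (maximalIdeal V').comap ε = maximalIdeal V := by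
      ext x
      refine ⟨fun hx => (mem_maximalIdeal _).2 fun hu => (mem_maximalIdeal _).1 hx (hu.map ε), fun hx => ?_⟩
      refine (mem_maximalIdeal _).2 fun hu => (mem_maximalIdeal _).1 hx ?_
      have h2 := hu.map ε.symm
      rwa [ε.symm_apply_apply] at h2
    rwa [← hcm, Ideal.ramificationIdx'_comap_eq] at h1

/-- Tameness along a divisor passes to localizations of the cover. -/
theorem isTameAlong_localization {A B S : Type u} [CommRing A] [IsDomain A] [CommRing B] [CommRing S] [Algebra B S]
    (x : B) [IsLocalization.Away x S] {r : ℕ} (f : Fin r → A) [∀ i, (Ideal.span {f i}).IsPrime] (φ : A →+* B)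
    (φ' : A →+* S) (hφ : φ' = (algebraMap B S).comp φ) (h : SGA1.IsTameAlong f φ) : SGA1.IsTameAlong f φ' := by
  subst hφ
  intro i q _ hq
  let q' := q.comap (algebraMap B S)
  have hq' : Ideal.comap φ q' = ⊥ := by rw [← hq, Ideal.comap_comap]
  let μ : q'.ResidueField →+* q.ResidueField := Ideal.ResidueField.map q' q (algebraMap B S) rfl
  have hμ : ∀ b : B, μ (algebraMap B q'.ResidueField b) = algebraMap S q.ResidueField (algebraMap B S b) := fun b => by
    simp [μ]
  have hsurj : Function.Surjective μ := by
    intro z
    obtain ⟨a, b, hb, rfl⟩ := IsFractionRing.div_surjective (A := S ⧸ q) z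
    obtain ⟨a, rfl⟩ := Ideal.Quotient.mk_surjective a
    obtain ⟨b, rfl⟩ := Ideal.Quotient.mk_surjective b
    have hS : ∀ s : S, algebraMap S q.ResidueField s ∈ μ.fieldRange := fun s => by
      obtain ⟨⟨b, t⟩, hs⟩ := IsLocalization.surj (Submonoid.powers x) s
      have ht : algebraMap S q.ResidueField (algebraMap B S t) ≠ 0 :=
        ((IsLocalization.map_units S t).map (algebraMap S q.ResidueField)).ne_zero
      have h1 := congrArg (algebraMap S q.ResidueField) hs
      rw [map_mul, ← eq_div_iff ht] at h1
      rw [h1]
      exact div_mem ⟨_, hμ b⟩ ⟨_, hμ t⟩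
    exact div_mem (hS a) (hS b)
  refine isTamelyRamified_of_ringEquiv _ _ (RingEquiv.ofBijective μ ⟨μ.injective, hsurj⟩) ?_ (h i q' hq')
  refine IsLocalization.ringHom_ext (Ideal.span {f i}).primeCompl (RingHom.ext fun a => ?_)
  simp only [RingHom.comp_apply, SGA1.genericResidueMap, IsLocalization.lift_eq]
  exact hμ (φ a)

end Groth.Agent.AbhAbs
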