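import Mathlib
import Groth.Agent.AbhAbs.Main
import Groth.Agent.AbhAbs.Dominate
import Groth.Agent.AbhAbs.Lattice
import Groth.Agent.AbhAbs.TameLoc

/-!
# Regular tame covers of a strictly henselian regular local ring are Kummer covers
-/

set_option autoImplicit false
set_option linter.style.haveILetI false
set_option backward.isDefEq.respectTransparency false
set_option backward.isDefEq.respectTransparency.types false
set_option maxHeartbeats 1000000

universe u

open IsLocalRing TensorProduct

noncomputable section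

namespace Groth.Agent.AbhAbs

/-- A strictly henselian ring contains the roots of unity of invertible order. -/
theorem root_of_unity_mem {A Ω : Type u} [CommRing A] [IsDomain A] (hA : HenselianLocalRing A)
    [IsSepClosed (ResidueField A)] [Field Ω] [Algebra A Ω] (hinj : Function.Injective (algebraMap A Ω)) {M : ℕ}
    (hM : 1 ≤ M) (hMu : IsUnit ((M : ℕ) : ResidueField A)) {u : Ω} (hu : u ^ M = 1) :
    u ∈ Set.range (algebraMap A Ω) := by
  classical
  haveI : NeZero (M : ResidueField A) := ⟨hMu.ne_zero⟩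
  let p : Polynomial A := Polynomial.X ^ M - 1
  have hp : p.Monic := Polynomial.monic_X_pow_sub_C 1 (by omega)
  let pκ : Polynomial (ResidueField A) := Polynomial.X ^ M - Polynomial.C 1
  have hsep : pκ.Separable := Polynomial.separable_X_pow_sub_C 1 hMu.ne_zero one_ne_zero
  have hcard : pκ.roots.toFinset.card = M := by
    rw [Multiset.toFinset_card_of_nodup (Polynomial.nodup_roots hsep),
      ← (IsSepClosed.splits_of_separable _ hsep).natDegree_eq_card_roots, Polynomial.natDegree_X_pow_sub_C]
  have hlift : ∀ c ∈ pκ.roots.toFinset, ∃ a : A, a ^ M = 1 ∧ residue A a = c := by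
    intro c hc
    obtain ⟨a₀, rfl⟩ := residue_surjective c
    have hc' : residue A a₀ ^ M = 1 := by
      have := (Polynomial.mem_roots'.1 (Multiset.mem_toFinset.1 hc)).2
      simpa [pκ, sub_eq_zero] using this
    haveI := hA
    obtain ⟨a, ha, haa⟩ := HenselianLocalRing.is_henselian p hp a₀
      (by rw [← residue_eq_zero_iff]; simp [p, hc']) (by
        have : IsUnit (residue A ((Polynomial.derivative p).eval a₀)) := by
          simp only [p, Polynomial.derivative_sub, Polynomial.derivative_X_pow, Polynomial.derivative_one, sub_zero,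
            Polynomial.eval_mul, Polynomial.eval_C, Polynomial.eval_natCast, Polynomial.eval_pow, Polynomial.eval_X, map_mul, map_natCast,
            map_pow]
          refine hMu.mul (IsUnit.pow _ (isUnit_iff_ne_zero.2 fun h => ?_))
          rw [h, zero_pow (by omega : M ≠ 0)] at hc'
          exact zero_ne_one hc'
        exact IsUnit.of_map (residue A) _ this)
    refine ⟨a, by simpa [p, sub_eq_zero] using ha, ?_⟩
    rw [← sub_eq_zero, ← map_sub]
    exact (residue_eq_zero_iff _).2 haa
  choose! lift hl1 hl2 using hlift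
  let q : Polynomial Ω := Polynomial.X ^ M - Polynomial.C 1
  have hq : q ≠ 0 := Polynomial.X_pow_sub_C_ne_zero (by omega) 1
  let S := pκ.roots.toFinset.image fun c => algebraMap A Ω (lift c)
  have hS : S.card = M := by
    rw [Finset.card_image_of_injOn, hcard]
    intro c hc c' hc' h
    rw [← hl2 c hc, ← hl2 c' hc', hinj h]
  have hsub : S ⊆ q.roots.toFinset := by
    intro y hy
    obtain ⟨c, hc, rfl⟩ := Finset.mem_image.1 hy
    rw [Multiset.mem_toFinset, Polynomial.mem_roots hq]
    simp [q, ← map_pow, hl1 c hc]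
  have hle : q.roots.toFinset.card ≤ S.card := by
    rw [hS]
    exact (Multiset.toFinset_card_le _).trans ((Polynomial.card_roots' q).trans_eq (Polynomial.natDegree_X_pow_sub_C))
  have humem : u ∈ q.roots.toFinset := by
    rw [Multiset.mem_toFinset, Polynomial.mem_roots hq]
    simp [q, hu]
  rw [← Finset.eq_of_subset_of_card_le hsub hle, Finset.mem_image] at humem
  obtain ⟨c, -, rfl⟩ := humem
  exact ⟨lift c, rfl⟩

/-- An abstract algebraic closure with its tower structures. -/
theorem exists_algClosure (A R L : Type u) [CommRing A] [CommRing R] [Field L] [Algebra A R] [Algebra R L] [Algebra A L]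
    [IsScalarTower A R L] :
    ∃ (Ω : Type u) (_ : Field Ω) (_ : IsAlgClosed Ω) (_ : Algebra L Ω) (_ : Algebra R Ω) (_ : Algebra A Ω),
      IsScalarTower R L Ω ∧ IsScalarTower A R Ω ∧ IsScalarTower A L Ω :=
  ⟨AlgebraicClosure L, inferInstance, inferInstance, inferInstance, inferInstance, inferInstance, inferInstance,
    inferInstance, inferInstance⟩

/-- A point of a tame cover with values in an algebraically closed field lies in the fraction field of a Kummer
algebra. -/
theorem exists_embedding {A : Type u} [CommRing A] [IsRegularLocalRing A] [IsDomain A] (hAh : HenselianLocalRing A)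
    [IsSepClosed (ResidueField A)] {r : ℕ} {f : Fin r → A} (hf : IsParams f) [∀ i, (Ideal.span {f i}).IsPrime]
    (B : Type u) [CommRing B] [IsDomain B] [Algebra A B] [Module.Finite A B]
    (hB : Function.Injective (algebraMap A B))
    [Algebra.Etale (Localization.Away (∏ i, f i)) (Localization.Away (∏ i, f i) ⊗[A] B)]
    (htame : SGA1.IsTameAlong f (algebraMap A B)) :
    ∃ M : ℕ, 1 ≤ M ∧ IsUnit ((M : ℕ) : ResidueField A) ∧
      ∃ j : B →ₐ[A] KR f M, Function.Injective j := by
  let F := ∏ i, f i
  let AF := Localization.Away F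
  let S := AF ⊗[A] B
  letI : Algebra B S := Algebra.TensorProduct.rightAlgebra
  haveI : Algebra.IsPushout A AF B S := TensorProduct.isPushout
  haveI : Algebra.IsPushout A B AF S := Algebra.IsPushout.symm inferInstance
  haveI hloc : IsLocalization.Away (algebraMap A B F) S := by
    have := (Algebra.isLocalization_iff_isPushout (Submonoid.powers F) AF (R := A) (T := B) (B := S)).2 inferInstance
    rwa [Algebra.algebraMapSubmonoid_powers] at this
  have htS : SGA1.IsTameAlong f (algebraMap A S) := isTameAlong_localization (algebraMap A B F) f (algebraMap A B) _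
    (IsScalarTower.algebraMap_eq A B S) htame
  obtain ⟨M, hM, hMu, C, _, _, hCfin, hCet, hiso⟩ := exists_model (A := A) (B := S) hf htS
  refine ⟨M, hM, hMu, ?_⟩
  haveI := hCfin
  haveI := hCet
  haveI : IsRegularLocalRing (KR f M) := KR.isRegularLocalRing hf hM
  haveI : IsDomain (KR f M) := KR.isDomain hf hM
  haveI : IsIntegrallyClosed (KR f M) := RegLoc6.isIntegrallyClosed_of_isRegularLocalRing _
  haveI := RGLib.Kummer.finite f (fun _ => M) (fun _ => hM)
  haveI := hAh
  haveI : IsLocalHom (algebraMap A (KR f M)) := Hensel.isLocalHom_of_isIntegral_local A (KR f M)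
  haveI : HenselianLocalRing (KR f M) := Hensel.henselianLocalRing_of_isIntegral_local A (KR f M)
  haveI : IsSepClosed (ResidueField (KR f M)) := (Hensel.residueField_of_isIntegral A (KR f M)).1
  have hinjR : Function.Injective (algebraMap A (KR f M)) := RGLib.Kummer.injective f (fun _ => M) fun _ => hM
  obtain ⟨RF, _, _, _, _, h1, h2, h3⟩ := exists_away (R := KR f M) F AF
  haveI := h1
  haveI := h2
  haveI := h3
  obtain ⟨σ⟩ := hiso RF fun a => by
    rw [← IsScalarTower.algebraMap_apply, ← IsScalarTower.algebraMap_apply]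
  obtain ⟨L, _, _, _, _, _, hT1, -⟩ := exists_fractionField (FractionRing A) (KR f M) hinjR
  haveI := hT1
  obtain ⟨Ω, _, _, _, _, _, hT2, hT3, hT4⟩ := exists_algClosure A (KR f M) L
  haveI := hT2
  haveI := hT3
  haveI := hT4
  have hRΩ : Function.Injective (algebraMap (KR f M) Ω) := by
    rw [IsScalarTower.algebraMap_eq (KR f M) L Ω]
    exact (algebraMap L Ω).injective.comp (IsFractionRing.injective (KR f M) L)
  have hg : IsUnit (algebraMap (KR f M) L (algebraMap A (KR f M) F)) := isUnit_iff_ne_zero.2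
    ((map_ne_zero_iff _ (IsFractionRing.injective (KR f M) L)).2 ((map_ne_zero_iff _ hinjR).2 hf.prod_ne_zero))
  let ρ : RF →+* L := IsLocalization.Away.lift _ hg
  letI : Algebra RF Ω := ((algebraMap L Ω).comp ρ).toAlgebra
  haveI : IsScalarTower (KR f M) RF Ω := IsScalarTower.of_algebraMap_eq (R := KR f M) (S := RF) (A := Ω) fun a => by
    show _ = algebraMap L Ω (ρ (algebraMap (KR f M) RF a))
    rw [IsLocalization.Away.lift_eq, ← IsScalarTower.algebraMap_apply]
  letI : Algebra AF Ω := ((algebraMap RF Ω).comp (algebraMap AF RF)).toAlgebra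
  haveI : IsScalarTower AF RF Ω := IsScalarTower.of_algebraMap_eq (R := AF) (S := RF) (A := Ω) fun _ => rfl
  haveI : IsScalarTower A AF Ω := IsScalarTower.of_algebraMap_eq (R := A) (S := AF) (A := Ω) fun a => by
    show _ = algebraMap RF Ω (algebraMap AF RF (algebraMap A AF a))
    rw [← IsScalarTower.algebraMap_apply A AF RF, IsScalarTower.algebraMap_apply A (KR f M) RF,
      ← IsScalarTower.algebraMap_apply (KR f M) RF Ω, ← IsScalarTower.algebraMap_apply]
  have hAΩ : Function.Injective (algebraMap A Ω) := by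
    rw [IsScalarTower.algebraMap_eq A (KR f M) Ω]
    exact hRΩ.comp hinjR
  haveI : FaithfulSMul A B := (faithfulSMul_iff_algebraMap_injective A B).2 hB
  haveI : FaithfulSMul A Ω := (faithfulSMul_iff_algebraMap_injective A Ω).2 hAΩ
  haveI : Algebra.IsAlgebraic A B := inferInstance
  let φB : B →ₐ[A] Ω := IsAlgClosed.lift
  have hφinj : Function.Injective φB := by
    refine (RingHom.injective_iff_ker_eq_bot φB.toRingHom).2 (Ideal.eq_bot_of_comap_eq_bot (R := A) ?_)
    rw [eq_bot_iff]
    intro a ha
    have h1 : φB (algebraMap A B a) = 0 := ha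
    rw [φB.commutes, ← map_zero (algebraMap A Ω)] at h1
    exact hAΩ h1
  let τS : S →ₐ[AF] Ω := Algebra.TensorProduct.lift (Algebra.ofId AF Ω) φB fun _ _ => Commute.all _ _
  let τ : RF ⊗[AF] S →ₐ[RF] Ω := Algebra.TensorProduct.lift (Algebra.ofId RF Ω) τS fun _ _ => Commute.all _ _
  let τC : C →ₐ[KR f M] Ω :=
    ((τ.comp σ.toAlgHom).restrictScalars (KR f M)).comp Algebra.TensorProduct.includeRight
  haveI : IsScalarTower (KR f M) (KR f M) Ω :=
    IsScalarTower.of_algebraMap_eq (R := KR f M) (S := KR f M) (A := Ω) fun _ => rfl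
  have hC : ∀ c, τC c ∈ (algebraMap RF Ω).range := fun c => by
    obtain ⟨h, hh⟩ := mem_range_of_strictlyHenselian (R := KR f M) (H := KR f M) τC c
    exact ⟨algebraMap (KR f M) RF h, by rw [← IsScalarTower.algebraMap_apply]; exact hh⟩
  have hrange : ∀ z, τ (σ z) ∈ (algebraMap RF Ω).range := fun z => by
    induction z using TensorProduct.induction_on with
    | zero => rw [map_zero, map_zero]; exact zero_mem _
    | tmul x c =>
      rw [← mul_one x, ← one_mul c, ← Algebra.TensorProduct.tmul_mul_tmul, map_mul, map_mul]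
      refine mul_mem ⟨x, ?_⟩ (hC c)
      exact (((τ.comp σ.toAlgHom)).commutes x).symm
    | add x y hx hy => rw [map_add, map_add]; exact add_mem hx hy
  let ιR : KR f M →ₐ[A] Ω := IsScalarTower.toAlgHom A (KR f M) Ω
  have hmem : ∀ b, φB b ∈ ιR.range := by
    intro b
    obtain ⟨x, hx⟩ := hrange (σ.symm (1 ⊗ₜ (1 ⊗ₜ b)))
    rw [σ.apply_symm_apply] at hx
    have hx' : algebraMap L Ω (ρ x) = φB b := by
      have : τ (1 ⊗ₜ (1 ⊗ₜ b)) = φB b := by
        have h1 : τS (1 ⊗ₜ b) = φB b :=
          (Algebra.TensorProduct.lift_tmul _ _ _ _ _).trans (by rw [map_one, one_mul])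
        refine (Algebra.TensorProduct.lift_tmul _ _ _ _ _).trans ?_
        rw [map_one, one_mul, h1]
      rw [← this, ← hx]
      rfl
    have hint : IsIntegral (KR f M) (ρ x) := by
      refine (isIntegral_algHom_iff (IsScalarTower.toAlgHom (KR f M) L Ω) (algebraMap L Ω).injective).1 ?_
      show IsIntegral (KR f M) (algebraMap L Ω (ρ x))
      rw [hx']
      exact ((Algebra.IsIntegral.isIntegral (R := A) b).map φB).tower_top
    obtain ⟨y, hy⟩ := IsIntegrallyClosed.isIntegral_iff.1 hint
    exact ⟨y, show algebraMap (KR f M) Ω y = φB b by rw [IsScalarTower.algebraMap_apply (KR f M) L Ω, hy, hx']⟩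
  exact ⟨(AlgEquiv.ofInjective ιR hRΩ).symm.toAlgHom.comp (φB.codRestrict ιR.range hmem),
    (AlgEquiv.ofInjective ιR hRΩ).symm.injective.comp fun x y h => hφinj (congrArg Subtype.val h)⟩

/-- Regular tame covers are Kummer. -/
theorem exists_kummerCover {A : Type u} [CommRing A] [IsRegularLocalRing A] [IsDomain A] (hAh : HenselianLocalRing A)
    [IsSepClosed (ResidueField A)] {r : ℕ} {f : Fin r → A} (hf : IsParams f) [∀ i, (Ideal.span {f i}).IsPrime]
    (B : Type u) [CommRing B] [IsDomain B] [Algebra A B] [Module.Finite A B]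
    (hB : Function.Injective (algebraMap A B))
    (hreg : ∀ (q : Ideal B) [q.IsPrime], IsRegularLocalRing (Localization.AtPrime q))
    [Algebra.Etale (Localization.Away (∏ i, f i)) (Localization.Away (∏ i, f i) ⊗[A] B)]
    (htame : SGA1.IsTameAlong f (algebraMap A B)) :
    ∃ n : Fin r → ℕ, (∀ i, 1 ≤ n i) ∧ (∀ i, IsUnit ((n i : ℕ) : ResidueField A)) ∧
      Nonempty (B ≃ₐ[A] RGLib.Kummer.K A f n) := by
  obtain ⟨M, hM, hMu, j, hj⟩ := exists_embedding hAh hf B hB htame
  haveI := hAh
  haveI : IsLocalRing B := Hensel.isLocalRing_of_isIntegral_domain A B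
  haveI : IsNoetherianRing B := IsNoetherianRing.of_finite A B
  haveI : IsRegularLocalRing B :=
    haveI : IsRegularRing B := isRegularRing_iff.2 hreg
    IsRegularLocalRing.of_isRegularRing_of_isLocalRing B
  haveI : IsIntegrallyClosed B := RegLoc6.isIntegrallyClosed_of_isRegularLocalRing B
  haveI : IsRegularLocalRing (KR f M) := KR.isRegularLocalRing hf hM
  haveI : IsDomain (KR f M) := KR.isDomain hf hM
  haveI := RGLib.Kummer.finite f (fun _ => M) (fun _ => hM)
  have hinjR : Function.Injective (algebraMap A (KR f M)) := RGLib.Kummer.injective f (fun _ => M) fun _ => hM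
  let P := j.range
  let eP : B ≃ₐ[A] P := AlgEquiv.ofInjective j hj
  haveI hPreg : IsRegularLocalRing P := IsRegularLocalRing.of_ringEquiv eP.toRingEquiv
  let K₀ := FractionRing A
  obtain ⟨L, _, _, _, _, _, hT1, hT2⟩ := exists_fractionField K₀ (KR f M) hinjR
  haveI := hT1
  haveI := hT2
  have hMA : (M : A) ≠ 0 := fun h => hMu.ne_zero (by rw [← map_natCast (residue A), h, map_zero])
  obtain ⟨_, _⟩ := KR.finite_separable hM hMA hf.ne_zero K₀ L
  let jL : B →ₐ[A] L := (IsScalarTower.toAlgHom A (KR f M) L).comp j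
  have hjL : Function.Injective jL := (IsFractionRing.injective (KR f M) L).comp hj
  let FB := FractionRing B
  let ψ : FB →+* L := IsFractionRing.lift hjL
  have hψ : ∀ b, ψ (algebraMap B FB b) = algebraMap (KR f M) L (j b) := IsFractionRing.lift_algebraMap hjL
  have hψA : ∀ a, ψ (algebraMap A FB a) = algebraMap A L a := fun a => by
    rw [IsScalarTower.algebraMap_apply A B FB, hψ, j.commutes, ← IsScalarTower.algebraMap_apply]
  let E : IntermediateField K₀ L := ψ.fieldRange.toIntermediateField fun k => by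
    obtain ⟨a, b, -, rfl⟩ := IsFractionRing.div_surjective (A := A) k
    rw [map_div₀, ← IsScalarTower.algebraMap_apply, ← IsScalarTower.algebraMap_apply, ← hψA, ← hψA]
    exact div_mem ⟨_, rfl⟩ ⟨_, rfl⟩
  have hEP : ∀ z : KR f M, algebraMap (KR f M) L z ∈ E → z ∈ P := by
    intro z hz
    obtain ⟨e, he⟩ := hz
    let ψA : FB →ₐ[A] L := { ψ with commutes' := hψA }
    have hint : IsIntegral A e := by
      refine (isIntegral_algHom_iff ψA ψ.injective).1 ?_
      show IsIntegral A (ψ e)
      rw [he]
      exact (Algebra.IsIntegral.isIntegral (R := A) z).map (IsScalarTower.toAlgHom A (KR f M) L)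
    obtain ⟨b, rfl⟩ := IsIntegrallyClosed.isIntegral_iff.1 (hint.tower_top (A := B))
    exact ⟨b, IsFractionRing.injective (KR f M) L ((hψ b).symm.trans he)⟩
  have hPE : ∀ z ∈ P, algebraMap (KR f M) L z ∈ E := by
    rintro _ ⟨b, rfl⟩
    exact ⟨_, hψ b⟩
  have hT0 : ∀ i, RGLib.Kummer.T f (fun _ => M) i ≠ 0 := fun i h => by
    have h1 := RGLib.Kummer.T_pow f (fun _ => M) i
    rw [h, zero_pow (by omega : M ≠ 0)] at h1
    exact hf.ne_zero i (hinjR (h1.symm.trans (map_zero _).symm))
  have hdiv : ∀ a c, mono f M (a + c) ∈ P → mono f M a ∈ P → mono f M c ∈ P := by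
    intro a c hac ha
    refine hEP _ ?_
    have h0 : algebraMap (KR f M) L (mono f M a) ≠ 0 :=
      (map_ne_zero_iff _ (IsFractionRing.injective (KR f M) L)).2
        (Finset.prod_ne_zero_iff.2 fun i _ => pow_ne_zero _ (hT0 i))
    have h1 := div_mem (hPE _ hac) (hPE _ ha)
    rwa [mono_add, map_mul, mul_div_cancel_left₀ _ h0] at h1
  obtain ⟨bas, hbas⟩ := exists_monBasis f hM
  obtain ⟨Ω, _, _, _, _, _, hT3, hT4, hT5⟩ := exists_algClosure A (KR f M) L
  haveI := hT3
  haveI := hT4
  haveI := hT5
  have hRΩ : Function.Injective (algebraMap (KR f M) Ω) := by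
    rw [IsScalarTower.algebraMap_eq (KR f M) L Ω]
    exact (algebraMap L Ω).injective.comp (IsFractionRing.injective (KR f M) L)
  have hAΩ : Function.Injective (algebraMap A Ω) := by
    rw [IsScalarTower.algebraMap_eq A (KR f M) Ω]
    exact hRΩ.comp hinjR
  have hcoef : ∀ z ∈ P, ∀ b, bas.repr z b ≠ 0 → mono f M (fun i => (b i : ℕ)) ∈ P := by
    intro z hz b₀ hb₀
    refine hEP _ ?_
    let y := algebraMap (KR f M) L (mono f M fun i => (b₀ i : ℕ))
    have hconj : ∀ s : L →ₐ[E] Ω, s y = algebraMap L Ω y := by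
      intro s
      have hsA : ∀ a, s (algebraMap A L a) = algebraMap A Ω a := fun a => by
        exact (s.commutes ⟨algebraMap A L a, ⟨_, hψA a⟩⟩).trans (IsScalarTower.algebraMap_apply A L Ω a).symm
      have hroot : ∀ i, ∃ ζ : A, s (algebraMap (KR f M) L (RGLib.Kummer.T f (fun _ => M) i)) =
          algebraMap A Ω ζ * algebraMap (KR f M) Ω (RGLib.Kummer.T f (fun _ => M) i) := by
        intro i
        have h0 : algebraMap (KR f M) Ω (RGLib.Kummer.T f (fun _ => M) i) ≠ 0 :=
          (map_ne_zero_iff _ hRΩ).2 (hT0 i)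
        have hu : (s (algebraMap (KR f M) L (RGLib.Kummer.T f (fun _ => M) i)) /
            algebraMap (KR f M) Ω (RGLib.Kummer.T f (fun _ => M) i)) ^ M = 1 := by
          rw [div_pow, ← map_pow s, ← map_pow (algebraMap (KR f M) L), ← map_pow (algebraMap (KR f M) Ω),
            RGLib.Kummer.T_pow f (fun _ => M) i,
            ← IsScalarTower.algebraMap_apply, ← IsScalarTower.algebraMap_apply, hsA, div_self]
          exact (map_ne_zero_iff _ hAΩ).2 (hf.ne_zero i)
        obtain ⟨ζ, hζ⟩ := root_of_unity_mem hAh hAΩ hM hMu hu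
        exact ⟨ζ, ((eq_div_iff h0).1 hζ).symm⟩
      choose ζ hζ using hroot
      have hsmono : ∀ b : Fin r → ℕ, s (algebraMap (KR f M) L (mono f M b)) =
          algebraMap A Ω (∏ i, ζ i ^ b i) * algebraMap (KR f M) Ω (mono f M b) := fun b => by
        simp only [mono, map_prod, map_pow, hζ, mul_pow, Finset.prod_mul_distrib]
      have hsz : s (algebraMap (KR f M) L z) = algebraMap (KR f M) Ω z := by
        rw [IsScalarTower.algebraMap_apply (KR f M) L Ω]
        exact s.commutes ⟨_, hPE z hz⟩
      have hz' : ∑ b, (bas.repr z b * ∏ i, ζ i ^ (b i : ℕ)) • bas b = z := by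
        refine hRΩ ?_
        rw [← hsz]
        conv_rhs => rw [← bas.sum_repr z]
        simp only [map_sum, smul_KR, map_mul, hbas, hsmono, ← IsScalarTower.algebraMap_apply, hsA]
        refine Finset.sum_congr rfl fun b _ => ?_
        ring
      have h1 := congrArg (fun w => bas.repr w b₀) hz'
      simp only [map_sum, map_smul, Finsupp.finsetSum_apply, Finsupp.smul_apply, Module.Basis.repr_self,
        Finsupp.single_apply, smul_eq_mul] at h1
      rw [Finset.sum_eq_single b₀ (fun b _ hb => by rw [if_neg hb, mul_zero])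
        (fun h => absurd (Finset.mem_univ _) h), if_pos rfl, mul_one, mul_right_eq_self₀] at h1
      rw [hsmono, h1.resolve_right hb₀, map_one, one_mul, ← IsScalarTower.algebraMap_apply]
    haveI : Algebra.IsSeparable E L := Algebra.isSeparable_tower_top_of_isSeparable K₀ E L
    haveI : FiniteDimensional E L := Module.Finite.of_restrictScalars_finite K₀ E L
    have hsep := Algebra.IsSeparable.isSeparable E y
    have hint := hsep.isIntegral
    have hroots : (minpoly E y).rootSet Ω = {algebraMap L Ω y} := by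
      rw [← Algebra.IsAlgebraic.range_eval_eq_rootSet_minpoly Ω y]
      refine Set.eq_singleton_iff_unique_mem.2 ⟨⟨IsScalarTower.toAlgHom E L Ω, rfl⟩, ?_⟩
      rintro _ ⟨s, rfl⟩
      exact hconj s
    have hdeg : (minpoly E y).natDegree = 1 := by
      rw [← Polynomial.card_rootSet_eq_natDegree (K := Ω) hsep (IsAlgClosed.splits _)]
      simp [hroots]
    obtain ⟨e, he⟩ := minpoly.natDegree_eq_one_iff.1 hdeg
    show y ∈ E
    rw [← he]
    exact e.2
  obtain ⟨d, hdM, hP⟩ := exists_product hf hM bas hbas P hPreg hcoef hdiv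
  have hd0 : ∀ i, 0 < d i := fun i => Nat.pos_of_dvd_of_pos (hdM i) (by omega)
  let n : Fin r → ℕ := fun i => M / d i
  have hn : ∀ i, 1 ≤ n i := fun i => Nat.div_pos (Nat.le_of_dvd (by omega) (hdM i)) (hd0 i)
  refine ⟨n, hn, fun i => ?_, ?_⟩
  · refine isUnit_of_dvd_unit ?_ hMu
    exact ⟨(d i : ResidueField A), by rw [← Nat.cast_mul, Nat.div_mul_cancel (hdM i)]⟩
  obtain ⟨hmn, hln⟩ := And.intro hf.mem hf.li
  haveI : IsRegularLocalRing (RGLib.Kummer.K A f n) := RGLib.Kummer.isRegularLocalRing f n hn hmn hln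
  haveI : IsDomain (RGLib.Kummer.K A f n) := RegLoc6.isDomain_of_isRegularLocalRing _
  haveI := RGLib.Kummer.finite f n hn
  obtain ⟨θ, hθ⟩ := (RGLib.Kummer.existsUnique_hom f n (fun i => RGLib.Kummer.T f (fun _ => M) i ^ d i) fun i => by
    rw [← pow_mul, Nat.mul_div_cancel' (hdM i)]
    exact RGLib.Kummer.T_pow f (fun _ => M) i).exists
  have hθr : θ.range = P := by
    rw [hP, ← Algebra.map_top θ, ← RGLib.Kummer.adjoin_T f n, AlgHom.map_adjoin, ← Set.range_comp]
    congr 2
    exact funext hθ
  have hθi : Function.Injective θ := by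
    refine (RingHom.injective_iff_ker_eq_bot θ.toRingHom).2 (Ideal.eq_bot_of_comap_eq_bot (R := A) ?_)
    rw [eq_bot_iff]
    intro a ha
    have h1 : θ (algebraMap A (RGLib.Kummer.K A f n) a) = 0 := ha
    rw [θ.commutes, ← map_zero (algebraMap A (KR f M))] at h1
    exact hinjR h1
  exact ⟨eP.trans (((AlgEquiv.ofInjective θ hθi).trans (Subalgebra.equivOfEq _ _ hθr)).symm)⟩

end Groth.Agent.AbhAbs
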